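import Groth.Prelude.Def_Curv2
import Groth.Prelude.Def_Found
import Mathlib.AlgebraicGeometry.Normalization
import Mathlib.AlgebraicGeometry.Morphisms.Finite
import Mathlib.AlgebraicGeometry.FunctionField
import Mathlib.Topology.Irreducible

/-!
# Affine-local description of the normalization of an integral scheme
-/

set_option autoImplicit false
universe u
open CategoryTheory CategoryTheory.Limits AlgebraicGeometry

namespace Groth.Agent.K385.NormFrac

theorem finite_of_subsingleton {R S : Type u} [CommRing R] [CommRing S] [Subsingleton R] (f : R →+* S) :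
    f.Finite :=
  RingHom.Finite.of_surjective f (fun _ => ⟨0, (f.codomain_trivial).elim _ _⟩)

theorem preimage_eq_top (X : Scheme.{u}) [IsIntegral X] (V : X.Opens)
    (hVη : genericPoint X ∈ V) : (X.fromSpecStalk (genericPoint X)) ⁻¹ᵁ V = ⊤ := by
  rw [eq_top_iff]
  intro y _
  have h1 : (X.fromSpecStalk (genericPoint X)) y ∈ Set.range (X.fromSpecStalk (genericPoint X)) := ⟨y, rfl⟩
  rw [Scheme.range_fromSpecStalk] at h1
  exact (h1 : (X.fromSpecStalk (genericPoint X)) y ⤳ genericPoint X).mem_open V.2 hVη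

/-- The sections over `fromSpecStalk ⁻¹ V` form a fraction field of `Γ(X, V)`. -/
theorem isFractionRing (X : Scheme.{u}) [IsIntegral X] (V : X.Opens) (hV : IsAffineOpen V)
    (hVη : genericPoint X ∈ V) :
    letI := ((X.fromSpecStalk (genericPoint X)).app V).hom.toAlgebra
    IsFractionRing Γ(X, V) Γ(Spec (X.presheaf.stalk (genericPoint X)), (X.fromSpecStalk (genericPoint X)) ⁻¹ᵁ V) := by
  have hneV : Nonempty V := ⟨⟨_, hVη⟩⟩
  let g := X.fromSpecStalk (genericPoint X)
  let algK : Algebra Γ(X, V) Γ(Spec (X.presheaf.stalk (genericPoint X)), g ⁻¹ᵁ V) := (g.app V).hom.toAlgebra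
  have hpre : g ⁻¹ᵁ V = ⊤ := preimage_eq_top X V hVη
  have hiso : IsIso ((Spec (X.presheaf.stalk (genericPoint X))).presheaf.map
      (homOfLE (le_top : g ⁻¹ᵁ V ≤ ⊤)).op) := by
    have : IsIso (homOfLE (le_top : g ⁻¹ᵁ V ≤ ⊤)) := ⟨homOfLE hpre.ge, rfl, rfl⟩
    infer_instance
  let e0 : X.functionField ≅ Γ(Spec (X.presheaf.stalk (genericPoint X)), g ⁻¹ᵁ V) :=
    (Scheme.ΓSpecIso (X.presheaf.stalk (genericPoint X))).symm ≪≫ @asIso _ _ _ _ _ hiso
  have hcomm : g.app V = X.germToFunctionField V ≫ e0.hom := Scheme.fromSpecStalk_app hVη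
  let e1 : X.functionField ≃ₐ[Γ(X, V)] Γ(Spec (X.presheaf.stalk (genericPoint X)), g ⁻¹ᵁ V) :=
    { e0.commRingCatIsoToRingEquiv with
      commutes' := fun r => (congr($hcomm r)).symm }
  have hfr0 : IsFractionRing Γ(X, V) X.functionField := functionField_isFractionRing_of_isAffineOpen X V hV
  exact IsLocalization.isLocalization_of_algEquiv _ e1

/-- An N-2 domain has finite integral closure in any fraction field. -/
theorem finite_integralClosure_of_isN2 (R K : Type u) [CommRing R] [IsDomain R] [CommRing K] [Algebra R K]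
    [IsFractionRing R K] (h : CAlg.IsN2 R) : Module.Finite R (integralClosure R K) := by
  let e : FractionRing R ≃ₐ[R] K := FractionRing.algEquiv R K
  have h1 : Module.Finite R (integralClosure R (FractionRing R)) :=
    h (FractionRing R) inferInstance
  exact Module.Finite.equiv (AlgEquiv.mapIntegralClosure e).toLinearEquiv

end Groth.Agent.K385.NormFrac
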