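import Groth.Prelude.Def_LCI2
import Groth.Agent.Dix.ProjProper

/-!
# Base change of modules very ample relative to some projective space
-/

set_option autoImplicit false

universe u

open CategoryTheory Limits AlgebraicGeometry TopologicalSpace

namespace Groth.Agent.K385.VeryAmpleBC

open Groth.Agent.Dix.ProjProper

variable {X S X' S' : Scheme.{u}}

theorem of_iso {f : X ⟶ S} {L L' : X.Modules} (h : RelAmple.IsRelVeryAmplePn f L) (e : L ≅ L') :
    RelAmple.IsRelVeryAmplePn f L' := by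
  obtain ⟨n, i, hi, hf, ⟨e'⟩⟩ := h
  exact ⟨n, i, hi, hf, ⟨e.symm ≪≫ e'⟩⟩

/-- The twisting sheaf on projective space is compatible with base change. -/
noncomputable def twistOverIso (n : ℕ) (g : S' ⟶ S) (d : ℤ) :
    (Scheme.Modules.pullback (mapBase n g)).obj (Twist.twistOver n S d) ≅ Twist.twistOver n S' d :=
  (Scheme.Modules.pullbackComp (mapBase n g) (toZ n S)).app _ ≪≫
    (Scheme.Modules.pullbackCongr (mapBase_toZ n g)).app _

/-- Very ampleness relative to projective space is stable under base change. -/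
theorem of_isPullback {f : X ⟶ S} {g : S' ⟶ S} {a : X' ⟶ X} {b : X' ⟶ S'} (H : IsPullback a b f g)
    {L : X.Modules} (h : RelAmple.IsRelVeryAmplePn f L) :
    RelAmple.IsRelVeryAmplePn b ((Scheme.Modules.pullback a).obj L) := by
  obtain ⟨n, i, hi, hf, ⟨e⟩⟩ := h
  change i ≫ CohB1.ProjSpaceOver.toBase n S = f at hf
  subst hf
  have h1 := isPullback_mapBase n g
  obtain ⟨i', hi', hp⟩ : ∃ i' : X' ⟶ CohB1.ProjSpaceOver n S',
      i' ≫ CohB1.ProjSpaceOver.toBase n S' = b ∧ IsPullback a i' i (mapBase n g) := by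
    refine ⟨h1.lift (a ≫ i) b (by rw [Category.assoc, H.w]), h1.lift_snd _ _ _, ?_⟩
    refine IsPullback.of_bot (h₃₁ := g) (v₂₁ := CohB1.ProjSpaceOver.toBase n S')
      (v₂₂ := CohB1.ProjSpaceOver.toBase n S) ?_ (h1.lift_fst _ _ _).symm h1
    rw [h1.lift_snd]
    exact H
  refine ⟨n, i', MorphismProperty.of_isPullback (P := @IsImmersion) hp hi, hi', ⟨?_⟩⟩
  exact (Scheme.Modules.pullback a).mapIso e ≪≫ (Scheme.Modules.pullbackComp a i).app _ ≪≫
    (Scheme.Modules.pullbackCongr hp.w).app _ ≪≫ ((Scheme.Modules.pullbackComp i' (mapBase n g)).app _).symm ≪≫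
    (Scheme.Modules.pullback i').mapIso (twistOverIso n g 1)

theorem isPullback_homOfLE (f : X ⟶ S) {W V : S.Opens} (h : W ≤ V) :
    IsPullback (X.homOfLE (f.preimage_mono h)) (f ∣_ W) (f ∣_ V) (S.homOfLE h) := by
  refine IsPullback.of_right (h₁₂ := (f ⁻¹ᵁ V).ι) (h₂₂ := V.ι) (v₁₃ := f) ?_ ?_
    (isPullback_morphismRestrict f V).flip
  · simpa using (isPullback_morphismRestrict f W).flip
  · rw [← cancel_mono V.ι, Category.assoc, Category.assoc, morphismRestrict_ι, Scheme.homOfLE_ι_assoc,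
      Scheme.homOfLE_ι, morphismRestrict_ι]

/-- Very ampleness relative to projective space over a smaller open of the base. -/
theorem restrict_of_le {f : X ⟶ S} {W V : S.Opens} (hWV : W ≤ V) {L : X.Modules}
    (h : RelAmple.IsRelVeryAmplePn (f ∣_ V) (L.restrict (f ⁻¹ᵁ V).ι)) :
    RelAmple.IsRelVeryAmplePn (f ∣_ W) (L.restrict (f ⁻¹ᵁ W).ι) := by
  refine of_iso (of_isPullback (isPullback_homOfLE f hWV) h) ?_
  exact (Scheme.Modules.pullback _).mapIso ((Scheme.Modules.restrictFunctorIsoPullback _).app L) ≪≫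
    (Scheme.Modules.pullbackComp _ _).app L ≪≫ (Scheme.Modules.pullbackCongr (Scheme.homOfLE_ι _ _)).app L ≪≫
    ((Scheme.Modules.restrictFunctorIsoPullback _).app L).symm

theorem isSeparated_of_isRelVeryAmplePn {f : X ⟶ S} {L : X.Modules} (h : RelAmple.IsRelVeryAmplePn f L) :
    IsSeparated f := by
  obtain ⟨n, i, hi, hf, -⟩ := h
  rw [← hf]
  change IsSeparated (i ≫ CohB1.ProjSpaceOver.toBase n S)
  infer_instance

end Groth.Agent.K385.VeryAmpleBC
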