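import Groth.Agent.Ega2.AmpleSec
import Groth.Agent.Ega2.WeightPull
import Groth.Agent.CurvesC.ProjClosed
import Groth.Agent.Fdesc.LocGenAmple

/-!
# `X_s` is affine for a section `s` of an ample module on a scheme universally closed over an affine scheme
-/

set_option autoImplicit false

universe u

open CategoryTheory Limits AlgebraicGeometry TopologicalSpace

namespace Groth.Agent.K385.GenLocusAffine

open Groth.Agent.CurvesC

variable {X : Scheme.{u}}

theorem isAffineOpen_genLocus_of_family {R : Type u} [CommRing R] (g : X ⟶ Spec (CommRingCat.of R))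
    [UniversallyClosed g] {L : X.Modules} {n : ℕ} (s : Fin (n + 1) → (Coh.structureModule X ⟶ L))
    (I : Set (Fin (n + 1))) (hs : ⨆ i : I, CohB1.genLocus L (s i) = ⊤)
    (ha : ∀ i ∈ I, IsAffineOpen (CohB1.genLocus L (s i))) (i : Fin (n + 1)) :
    IsAffineOpen (CohB1.genLocus L (s i)) := by
  have hs' : ⨆ i, CohB1.genLocus L (s i) = ⊤ := by
    rw [eq_top_iff, ← hs]
    exact iSup_le fun i => le_iSup (fun i => CohB1.genLocus L (s i)) i.1
  obtain ⟨φ, hφ⟩ := ProjMap.exists_isMapOf g L s hs'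
  have hcomp := hφ.comp_toSpec hs'
  have huc : UniversallyClosed φ := by
    have : UniversallyClosed (φ ≫ CohB1.ProjSpace.toSpec n R) := hcomp ▸ inferInstance
    have hsep : IsSeparated (CohB1.ProjSpace.toSpec n R) := ProjClosed.isSeparated_toSpec n R
    exact UniversallyClosed.of_comp_of_isSeparated φ (CohB1.ProjSpace.toSpec n R)
  have hcl : IsClosed (Set.range φ) := φ.isClosedMap.isClosed_range
  have haff : IsAffineHom φ := by
    apply isAffineHom_of_forall_exists_isAffineOpen
    intro y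
    by_cases hy : y ∈ Set.range φ
    · obtain ⟨x, rfl⟩ := hy
      have hx : x ∈ ⨆ i : I, CohB1.genLocus L (s i) := hs ▸ trivial
      obtain ⟨i, hi⟩ := Opens.mem_iSup.1 hx
      rw [← hφ.preimage_Dp hs' i] at hi
      refine ⟨ProjSpaceBasic.Dp n R i, hi, ProjSpaceBasic.isAffineOpen_Dp n R i, ?_⟩
      rw [hφ.preimage_Dp hs' i]
      exact ha i i.2
    · obtain ⟨W, hW, hyW, hWle⟩ := exists_isAffineOpen_mem_and_subset
        (X := CohB1.ProjSpace n R) (U := ⟨(Set.range φ)ᶜ, hcl.isOpen_compl⟩) (x := y) hy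
      refine ⟨W, hyW, hW, ?_⟩
      have : φ ⁻¹ᵁ W = ⊥ := by
        ext x
        simp only [Opens.coe_bot, Set.mem_empty_iff_false, iff_false]
        intro hx
        exact hWle hx ⟨x, rfl⟩
      rw [this]
      exact isAffineOpen_bot X
  rw [← hφ.preimage_Dp hs' i]
  exact (ProjSpaceBasic.isAffineOpen_Dp n R i).preimage φ

theorem isAffineOpen_genLocus {R : Type u} [CommRing R] (g : X ⟶ Spec (CommRingCat.of R))
    [UniversallyClosed g] {L : X.Modules} (hL : CohB1.IsAmple L) (s : Coh.structureModule X ⟶ L) :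
    IsAffineOpen (CohB1.genLocus L s) := by
  have : QuasiSeparatedSpace X := Fdesc.LocGen.quasiSeparatedSpace_of_isAmple hL
  obtain ⟨ι, hι, U, hU, hUa, n₀, h⟩ := Ega2.AmpleSec.exists_ample_sections hL (fun _ => ∅)
    (fun _ _ => Set.finite_empty)
  obtain ⟨k, ⟨e⟩⟩ := Finite.exists_equiv_fin ι
  choose v hv _ using fun i => h (n₀ + 1) (Nat.le_succ n₀) i
  let t : Coh.structureModule X ⟶ CohB1.tensorPow L (n₀ + 1) := Fdesc.LocGen.powHom s (n₀ + 1)
  have ht : CohB1.genLocus _ t = CohB1.genLocus L s := Fdesc.LocGen.genLocus_powHom hL.1 s n₀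
  let σ : Fin (k + 1) → (Coh.structureModule X ⟶ CohB1.tensorPow L (n₀ + 1)) :=
    Fin.lastCases t (fun j => v (e.symm j))
  have hσ1 : σ (Fin.last k) = t := Fin.lastCases_last
  have hσ2 : ∀ j : Fin k, σ j.castSucc = v (e.symm j) := fun j => Fin.lastCases_castSucc j
  have key := isAffineOpen_genLocus_of_family g σ (Set.range Fin.castSucc) ?_ ?_ (Fin.last k)
  · rw [hσ1, ht] at key
    exact key
  · rw [eq_top_iff, ← hU]
    refine iSup_le fun i => ?_
    refine le_trans (le_of_eq ?_) (le_iSup (fun i : Set.range (Fin.castSucc (n := k)) =>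
      CohB1.genLocus _ (σ i)) ⟨(e i).castSucc, ⟨e i, rfl⟩⟩)
    dsimp only
    rw [hσ2, Equiv.symm_apply_apply, hv]
  · rintro _ ⟨j, rfl⟩
    rw [hσ2, hv]
    exact hUa _

end Groth.Agent.K385.GenLocusAffine
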