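import Groth.Agent.Mor.K385.NormFrac
import Groth.Agent.S2139
import Groth.Prelude.Def_Pi1

/-!
# Universal property of the normalization of an integral scheme for dominant maps from normal schemes
-/

set_option autoImplicit false
universe u
open CategoryTheory CategoryTheory.Limits AlgebraicGeometry

namespace Groth.Agent.K385.NormLift

/-- Gluing of unique lifts. -/
theorem existsUnique_lift_of_local {Z Y X : Scheme.{u}} (g : Z ⟶ X) (ν : Y ⟶ X)
    (hex : ∀ z : Z, ∃ W : Z.Opens, z ∈ W ∧ ∃ h : W.toScheme ⟶ Y, h ≫ ν = W.ι ≫ g)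
    (huniq : ∀ (T : Scheme.{u}) (j : T ⟶ Z) [IsOpenImmersion j] (h h' : T ⟶ Y),
      h ≫ ν = j ≫ g → h' ≫ ν = j ≫ g → h = h') :
    ∃! h : Z ⟶ Y, h ≫ ν = g := by
  choose W hzW h hh using hex
  let 𝒰 : Z.OpenCover := {
    I₀ := Z, X i := (W i), f i := (W i).ι,
    mem₀ := by
      rw [Scheme.presieve₀_mem_precoverage_iff]
      refine ⟨fun x ↦ ⟨x, by simpa using hzW x⟩, inferInstance⟩ }
  refine ⟨𝒰.glueMorphisms (fun i => h i) fun x y => ?_, ?_, fun h' hh' => ?_⟩
  · refine huniq _ (pullback.fst (𝒰.f x) (𝒰.f y) ≫ 𝒰.f x) _ _ ?_ ?_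
    · rw [Category.assoc, hh x, Category.assoc]
    · rw [Category.assoc, hh y, pullback.condition, Category.assoc]
  · refine 𝒰.hom_ext _ _ fun x => ?_
    rw [← Category.assoc, Scheme.Cover.ι_glueMorphisms]
    exact hh x
  · refine 𝒰.hom_ext _ _ fun x => ?_
    rw [Scheme.Cover.ι_glueMorphisms]
    exact huniq _ (𝒰.f x) _ _ (by rw [Category.assoc, hh']) (hh x)

/-- Uniqueness at the level of rings. -/
theorem ringHom_ext {A K : Type u} [CommRing A] [IsDomain A] [CommRing K] [Algebra A K] [IsFractionRing A K]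
    {B : Type u} [CommRing B] (ψ : A →+* B) (hψ : ∀ a : A, a ≠ 0 → ψ a ∈ nonZeroDivisors B)
    (φ₁ φ₂ : integralClosure A K →+* B) (h₁ : φ₁.comp (algebraMap A (integralClosure A K)) = ψ)
    (h₂ : φ₂.comp (algebraMap A (integralClosure A K)) = ψ) : φ₁ = φ₂ := by
  ext ⟨x, hx⟩
  obtain ⟨⟨s, t⟩, hst⟩ := IsLocalization.surj (nonZeroDivisors A) x
  have key : (algebraMap A (integralClosure A K) t) * (⟨x, hx⟩ : integralClosure A K) =
      algebraMap A (integralClosure A K) s := by
    apply Subtype.ext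
    change algebraMap A K t * x = algebraMap A K s
    rw [mul_comm]
    exact hst
  have k1 : ψ t * φ₁ ⟨x, hx⟩ = ψ s := by
    rw [← h₁]
    change φ₁ _ * φ₁ _ = φ₁ _
    rw [← map_mul, key]
  have k2 : ψ t * φ₂ ⟨x, hx⟩ = ψ s := by
    rw [← h₂]
    change φ₂ _ * φ₂ _ = φ₂ _
    rw [← map_mul, key]
  have hnz := hψ t (nonZeroDivisors.ne_zero t.2)
  exact (mul_cancel_left_mem_nonZeroDivisors hnz).mp (k1.trans k2.symm)

/-- Existence at the level of rings. -/
theorem exists_ringHom {A K : Type u} [CommRing A] [IsDomain A] [CommRing K] [Algebra A K] [IsFractionRing A K]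
    {B : Type u} [CommRing B] (ψ : A →+* B) (hψ : ∀ a : A, a ≠ 0 → ψ a ∈ nonZeroDivisors B)
    (hB : IsIntegrallyClosedIn B (FractionRing B)) :
    ∃ φ : integralClosure A K →+* B, φ.comp (algebraMap A (integralClosure A K)) = ψ := by
  let κ : K →+* FractionRing B := IsLocalization.lift (M := nonZeroDivisors A)
    (g := (algebraMap B (FractionRing B)).comp ψ) (fun y => by
      exact IsLocalization.map_units (FractionRing B) (⟨ψ y, hψ y (nonZeroDivisors.ne_zero y.2)⟩ :
        nonZeroDivisors B))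
  have hκ : ∀ a : A, κ (algebraMap A K a) = algebraMap B (FractionRing B) (ψ a) :=
    fun a => IsLocalization.lift_eq _ _
  have hmem : ∀ x : integralClosure A K, κ x ∈ (algebraMap B (FractionRing B)).range := by
    rintro ⟨x, hx⟩
    have h1 : IsIntegral B (κ x) := by
      obtain ⟨p, hp, hpx⟩ := hx
      refine ⟨p.map ψ, hp.map ψ, ?_⟩
      rw [Polynomial.eval₂_map]
      have h2 : (algebraMap B (FractionRing B)).comp ψ = κ.comp (algebraMap A K) :=
        RingHom.ext fun a => (hκ a).symm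
      rw [h2, ← Polynomial.hom_eval₂, hpx, map_zero]
    obtain ⟨y, hy⟩ := hB.algebraMap_eq_of_integral h1
    exact ⟨y, hy⟩
  have hinj : Function.Injective (algebraMap B (FractionRing B)) := IsFractionRing.injective _ _
  let e : B ≃+* (algebraMap B (FractionRing B)).range :=
    RingEquiv.ofBijective (algebraMap B (FractionRing B)).rangeRestrict
      ⟨fun a b h => hinj (congrArg Subtype.val h), (algebraMap B (FractionRing B)).rangeRestrict_surjective⟩
  let φ0 : integralClosure A K →+* (algebraMap B (FractionRing B)).range :=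
    (κ.comp (integralClosure A K).val.toRingHom).codRestrict _ hmem
  refine ⟨(e.symm : _ →+* B).comp φ0, ?_⟩
  ext a
  change e.symm (φ0 (algebraMap A (integralClosure A K) a)) = ψ a
  rw [RingEquiv.symm_apply_eq]
  exact Subtype.ext (hκ a)

/-- Sections over an affine open of a normal scheme are integrally closed in their total ring of fractions. -/
theorem isIntegrallyClosedIn_of_isNormalScheme {Z : Scheme.{u}} (hZ : Pi1.IsNormalScheme Z) (W : Z.Opens)
    (hW : IsAffineOpen W) : IsIntegrallyClosedIn Γ(Z, W) (FractionRing Γ(Z, W)) := by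
  apply S2139.mp
  intro p hp
  let y : Spec Γ(Z, W) := ⟨p, hp⟩
  have hy : hW.fromSpec y ∈ W := by
    have := hW.range_fromSpec
    exact this.subset ⟨y, rfl⟩
  let x : W := ⟨hW.fromSpec y, hy⟩
  let _ := Z.presheaf.algebra_section_stalk x
  have h1 : IsLocalization.AtPrime (Z.presheaf.stalk (x : Z)) p :=
    hW.isLocalization_stalk' y hy
  let e := IsLocalization.algEquiv p.primeCompl (Z.presheaf.stalk (x : Z)) (Localization.AtPrime p)
  obtain ⟨h3, h4⟩ := hZ (x : Z)
  exact ⟨e.symm.toMulEquiv.isDomain _, IsIntegrallyClosed.of_equiv e.toRingEquiv⟩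

/-- A stalkwise injectivity condition implies that nonzero sections pull back to nonzerodivisors. -/
theorem app_mem_nonZeroDivisors {T X : Scheme.{u}} [IsIntegral X] (t : T ⟶ X)
    (hT : ∀ x : T, IsDomain (T.presheaf.stalk x))
    (hinj : ∀ x : T, Function.Injective (t.stalkMap x).hom) (U : X.Opens) (W : T.Opens) (e : W ≤ t ⁻¹ᵁ U)
    (a : Γ(X, U)) (ha : a ≠ 0) : (t.appLE U W e).hom a ∈ nonZeroDivisors Γ(T, W) := by
  rw [mem_nonZeroDivisors_iff_right]
  intro b hb
  refine TopCat.Presheaf.section_ext T.sheaf W _ _ fun x hx => ?_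
  change T.presheaf.germ W x hx b = T.presheaf.germ W x hx 0
  have hD := hT x
  have h1 : T.presheaf.germ W x hx b * T.presheaf.germ W x hx ((t.appLE U W e).hom a) = 0 := by
    rw [← map_mul, hb, map_zero]
  rw [map_zero]
  refine (mul_eq_zero.mp h1).resolve_right fun h2 => ha ?_
  have h3 : (t.stalkMap x).hom (X.presheaf.germ U (t x) (e hx) a) = 0 := by
    rw [← h2]
    change (X.presheaf.germ U (t x) (e hx) ≫ t.stalkMap x).hom a =
      (t.appLE U W e ≫ T.presheaf.germ W x hx).hom a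
    rw [Scheme.Hom.germ_stalkMap, Scheme.Hom.appLE, Category.assoc, TopCat.Presheaf.germ_res]
  have h4 : X.presheaf.germ U (t x) (e hx) a = 0 := hinj x (by rw [h3, map_zero])
  exact germ_injective_of_isIntegral X (t x) (e hx) (by rw [h4, map_zero])

section

variable (X : Scheme.{u}) [IsIntegral X] [QuasiCompact (X.fromSpecStalk (genericPoint X))]
  [QuasiSeparated (X.fromSpecStalk (genericPoint X))]

/-- Two lifts to the normalization which agree over `X` have the same sections. -/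
theorem appLE_eq {T : Scheme.{u}} (t : T ⟶ X) (hT : ∀ x : T, IsDomain (T.presheaf.stalk x))
    (hinj : ∀ x : T, Function.Injective (t.stalkMap x).hom)
    (U : X.Opens) (hU : IsAffineOpen U) (hη : genericPoint X ∈ U) (W : T.Opens) (e : W ≤ t ⁻¹ᵁ U)
    (φ₁ φ₂ : Γ(Curv2.normalization X, Curv2.normalizationι X ⁻¹ᵁ U) ⟶ Γ(T, W))
    (h₁ : (Curv2.normalizationι X).app U ≫ φ₁ = t.appLE U W e)
    (h₂ : (Curv2.normalizationι X).app U ≫ φ₂ = t.appLE U W e) : φ₁ = φ₂ := by
  have hne : Nonempty U := ⟨⟨_, hη⟩⟩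
  let algK : Algebra Γ(X, U) Γ(Spec (X.presheaf.stalk (genericPoint X)),
    (X.fromSpecStalk (genericPoint X)) ⁻¹ᵁ U) := ((X.fromSpecStalk (genericPoint X)).app U).hom.toAlgebra
  have hfr := NormFrac.isFractionRing X U hU hη
  let N := (X.fromSpecStalk (genericPoint X)).normalizationObjIso hU
  have hN : (Curv2.normalizationι X).app U = CommRingCat.ofHom (algebraMap Γ(X, U)
      (integralClosure Γ(X, U) Γ(Spec (X.presheaf.stalk (genericPoint X)),
        (X.fromSpecStalk (genericPoint X)) ⁻¹ᵁ U))) ≫ N.inv :=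
    Scheme.Hom.fromNormalization_app (X.fromSpecStalk (genericPoint X)) hU
  have key : N.inv ≫ φ₁ = N.inv ≫ φ₂ := by
    apply CommRingCat.hom_ext
    refine ringHom_ext (t.appLE U W e).hom
      (fun a ha => app_mem_nonZeroDivisors t hT hinj U W e a ha) _ _ ?_ ?_
    · rw [hN] at h₁
      exact congrArg CommRingCat.Hom.hom ((Category.assoc _ _ _).symm.trans h₁)
    · rw [hN] at h₂
      exact congrArg CommRingCat.Hom.hom ((Category.assoc _ _ _).symm.trans h₂)
  exact (cancel_epi N.inv).mp key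

theorem lift_unique {T : Scheme.{u}} (t : T ⟶ X) (hT : ∀ x : T, IsDomain (T.presheaf.stalk x))
    (hinj : ∀ x : T, Function.Injective (t.stalkMap x).hom) (h h' : T ⟶ Curv2.normalization X)
    (e : h ≫ Curv2.normalizationι X = t) (e' : h' ≫ Curv2.normalizationι X = t) : h = h' := by
  have haff : IsAffineHom (Curv2.normalizationι X) := by
    change IsAffineHom (X.fromSpecStalk (genericPoint X)).fromNormalization
    infer_instance
  refine Scheme.hom_ext_of_forall _ _ fun x => ?_
  obtain ⟨_, ⟨U, hU, rfl⟩, hxU, -⟩ := X.isBasis_affineOpens.exists_subset_of_mem_open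
    (Set.mem_univ (t x)) isOpen_univ
  obtain ⟨_, ⟨W, hW, rfl⟩, hxW, hWU⟩ := T.isBasis_affineOpens.exists_subset_of_mem_open
    (show x ∈ t ⁻¹ᵁ U from hxU) (t ⁻¹ᵁ U).2
  refine ⟨W, hxW, ?_⟩
  have hU : IsAffineOpen U := hU
  have hW : IsAffineOpen W := hW
  have hWU : W ≤ t ⁻¹ᵁ U := hWU
  have hη : genericPoint X ∈ U := ((genericPoint_spec X).specializes (Set.mem_univ (t x))).mem_open U.2 hxU
  have hνU : IsAffineOpen (Curv2.normalizationι X ⁻¹ᵁ U) := hU.preimage _
  have l1 : W ≤ h ⁻¹ᵁ Curv2.normalizationι X ⁻¹ᵁ U := by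
    rw [← Scheme.Hom.comp_preimage, e]; exact hWU
  have l2 : W ≤ h' ⁻¹ᵁ Curv2.normalizationι X ⁻¹ᵁ U := by
    rw [← Scheme.Hom.comp_preimage, e']; exact hWU
  have h3 : h.appLE (Curv2.normalizationι X ⁻¹ᵁ U) W l1 = h'.appLE (Curv2.normalizationι X ⁻¹ᵁ U) W l2 := by
    refine appLE_eq X t hT hinj U hU hη W hWU _ _ ?_ ?_
    · subst e
      rw [Scheme.Hom.app_eq_appLE, Scheme.Hom.appLE_comp_appLE]
    · subst e'
      rw [Scheme.Hom.app_eq_appLE, Scheme.Hom.appLE_comp_appLE]
  have h4 := IsAffineOpen.SpecMap_appLE_fromSpec h hνU hW l1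
  have h5 := IsAffineOpen.SpecMap_appLE_fromSpec h' hνU hW l2
  rw [h3, h5] at h4
  rw [← hW.isoSpec_hom_fromSpec, Category.assoc, Category.assoc, h4]

/-- Local existence of lifts to the normalization. -/
theorem exists_lift_local {T : Scheme.{u}} (t : T ⟶ X) (hT : Pi1.IsNormalScheme T)
    (hinj : ∀ x : T, Function.Injective (t.stalkMap x).hom) (x : T) :
    ∃ W : T.Opens, x ∈ W ∧ ∃ h : W.toScheme ⟶ Curv2.normalization X,
      h ≫ Curv2.normalizationι X = W.ι ≫ t := by
  have haff : IsAffineHom (Curv2.normalizationι X) := by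
    change IsAffineHom (X.fromSpecStalk (genericPoint X)).fromNormalization
    infer_instance
  obtain ⟨_, ⟨U, hU, rfl⟩, hxU, -⟩ := X.isBasis_affineOpens.exists_subset_of_mem_open
    (Set.mem_univ (t x)) isOpen_univ
  obtain ⟨_, ⟨W, hW, rfl⟩, hxW, hWU⟩ := T.isBasis_affineOpens.exists_subset_of_mem_open
    (show x ∈ t ⁻¹ᵁ U from hxU) (t ⁻¹ᵁ U).2
  refine ⟨W, hxW, ?_⟩
  have hU : IsAffineOpen U := hU
  have hW : IsAffineOpen W := hW
  have hWU : W ≤ t ⁻¹ᵁ U := hWU
  have hη : genericPoint X ∈ U := ((genericPoint_spec X).specializes (Set.mem_univ (t x))).mem_open U.2 hxU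
  have hνU : IsAffineOpen (Curv2.normalizationι X ⁻¹ᵁ U) := hU.preimage _
  have hne : Nonempty U := ⟨⟨_, hη⟩⟩
  let algK : Algebra Γ(X, U) Γ(Spec (X.presheaf.stalk (genericPoint X)),
    (X.fromSpecStalk (genericPoint X)) ⁻¹ᵁ U) := ((X.fromSpecStalk (genericPoint X)).app U).hom.toAlgebra
  have hfr := NormFrac.isFractionRing X U hU hη
  let N := (X.fromSpecStalk (genericPoint X)).normalizationObjIso hU
  have hN : (Curv2.normalizationι X).app U = CommRingCat.ofHom (algebraMap Γ(X, U)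
      (integralClosure Γ(X, U) Γ(Spec (X.presheaf.stalk (genericPoint X)),
        (X.fromSpecStalk (genericPoint X)) ⁻¹ᵁ U))) ≫ N.inv :=
    Scheme.Hom.fromNormalization_app (X.fromSpecStalk (genericPoint X)) hU
  obtain ⟨φ, hφ⟩ := exists_ringHom (K := Γ(Spec (X.presheaf.stalk (genericPoint X)),
    (X.fromSpecStalk (genericPoint X)) ⁻¹ᵁ U)) (t.appLE U W hWU).hom
      (fun a ha => app_mem_nonZeroDivisors t (fun x => (hT x).1) hinj U W hWU a ha)
      (isIntegrallyClosedIn_of_isNormalScheme hT W hW)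
  let Φ : Γ(Curv2.normalization X, Curv2.normalizationι X ⁻¹ᵁ U) ⟶ Γ(T, W) :=
    N.hom ≫ CommRingCat.ofHom φ
  have hΦ : (Curv2.normalizationι X).app U ≫ Φ = t.appLE U W hWU := by
    have h1 : N.inv ≫ Φ = CommRingCat.ofHom φ := N.inv_hom_id_assoc (CommRingCat.ofHom φ)
    rw [hN]
    refine (Category.assoc _ _ _).trans ((congrArg (fun k => CommRingCat.ofHom (algebraMap Γ(X, U)
      (integralClosure Γ(X, U) Γ(Spec (X.presheaf.stalk (genericPoint X)),
        (X.fromSpecStalk (genericPoint X)) ⁻¹ᵁ U))) ≫ k) h1).trans ?_)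
    exact CommRingCat.hom_ext hφ
  refine ⟨hW.isoSpec.hom ≫ Spec.map Φ ≫ hνU.fromSpec, ?_⟩
  have h4 := IsAffineOpen.SpecMap_appLE_fromSpec (Curv2.normalizationι X) hU hνU le_rfl
  have h5 := IsAffineOpen.SpecMap_appLE_fromSpec t hU hW hWU
  rw [← Scheme.Hom.app_eq_appLE] at h4
  rw [Category.assoc, Category.assoc, ← h4, ← Spec.map_comp_assoc, hΦ, h5,
    ← Category.assoc, hW.isoSpec_hom_fromSpec]

/-- Universal property of the normalization. -/
theorem existsUnique_lift {T : Scheme.{u}} (t : T ⟶ X) (hT : Pi1.IsNormalScheme T)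
    (hinj : ∀ x : T, Function.Injective (t.stalkMap x).hom) :
    ∃! h : T ⟶ Curv2.normalization X, h ≫ Curv2.normalizationι X = t := by
  refine existsUnique_lift_of_local t _ (exists_lift_local X t hT hinj) ?_
  intro T' j hj h h' e e'
  have hiso : ∀ x : T', Function.Bijective (j.stalkMap x).hom := fun x =>
    ConcreteCategory.bijective_of_isIso (j.stalkMap x)
  refine lift_unique X (j ≫ t) (fun x => ?_) (fun x => ?_) h h' e e'
  · have := (hT (j x)).1
    exact (RingEquiv.ofBijective _ (hiso x)).symm.toMulEquiv.isDomain _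
  · rw [Scheme.Hom.stalkMap_comp]
    exact (hiso x).1.comp (hinj (j x))

end

end Groth.Agent.K385.NormLift
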