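import Groth.Agent.S2331
import Groth.Prelude.Def_RelProj

/-!
# Composition of projective morphisms over a quasi-compact quasi-separated base

`isProjective_comp`, with the two general facts on projective morphisms as hypotheses.
-/

set_option autoImplicit false
universe u
open CategoryTheory CategoryTheory.Limits AlgebraicGeometry

namespace Groth.Agent.K385.ProjComp

/-- A composition of quasi-projective morphisms over a quasi-compact base is quasi-projective. -/
theorem isQuasiProjective_comp {X Y S : Scheme.{u}} [CompactSpace ↥S] (f : X ⟶ Y) (g : Y ⟶ S)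
    (hf : RelProj.IsQuasiProjective f) (hg : RelProj.IsQuasiProjective g) :
    RelProj.IsQuasiProjective (f ≫ g) := by
  obtain ⟨h1, h2, L, hL⟩ := hf
  obtain ⟨h3, h4, K, hK⟩ := hg
  obtain ⟨n, -, hn⟩ := Groth.Agent.S2331.result f g L K hL hK
  exact ⟨inferInstance, inferInstance, _, hn n le_rfl⟩

/-- A composition of projective morphisms over a quasi-compact quasi-separated base is projective. -/
theorem isProjective_comp
    (H1 : ∀ {X Y : Scheme.{u}} (f : X ⟶ Y), RelProj.IsProjective f →
      RelProj.IsQuasiProjective f ∧ IsProper f)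
    (H2 : ∀ {X S : Scheme.{u}} (f : X ⟶ S) [CompactSpace ↥S] [QuasiSeparatedSpace ↥S] [IsProper f],
      RelProj.IsQuasiProjective f → RelProj.IsProjective f)
    {X Y S : Scheme.{u}} [CompactSpace ↥S] [QuasiSeparatedSpace ↥S]
    (f : X ⟶ Y) (g : Y ⟶ S) (hf : RelProj.IsProjective f) (hg : RelProj.IsProjective g) :
    RelProj.IsProjective (f ≫ g) := by
  have hfp := (H1 f hf).2
  have hgp := (H1 g hg).2
  exact H2 (f ≫ g) (isQuasiProjective_comp f g (H1 f hf).1 (H1 g hg).1)

end Groth.Agent.K385.ProjComp
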