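import Groth.Agent.Mor.K385.DimFormula
import Groth.Agent.CalgA.DimFormula
import Mathlib.AlgebraicGeometry.FunctionField

/-!
# Dimension of the source of a dominant closed morphism locally of finite type
-/

set_option autoImplicit false

universe u

open CategoryTheory Limits AlgebraicGeometry TopologicalSpace TensorProduct

namespace Groth.Agent.K385.DimClosed

open Groth.Agent.CycB

/-- Heights (dimensions of closures) do not go down along the inverse image of a specializing map. -/
theorem height_le_of_specializingMap {X Y : Scheme.{u}} (f : X ⟶ Y) (h : SpecializingMap f) (x : X) :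
    Order.height (f x) ≤ Order.height x := by
  have key : ∀ (n : ℕ) (x : X), (n : ℕ∞) ≤ Order.height (f x) → (n : ℕ∞) ≤ Order.height x := by
    intro n
    induction n with
    | zero => intro x _; simp
    | succ n ih =>
      intro x hx
      obtain ⟨p, hp, hlen⟩ := Order.exists_series_of_le_height (f x) hx
      have hn : p.length ≠ 0 := by omega
      have h1 : p.eraseLast.last < f x := hp ▸ p.eraseLast_last_rel_last hn
      have h2 : (n : ℕ∞) ≤ Order.height p.eraseLast.last := by
        have := Order.length_le_height_last (p := p.eraseLast)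
        have h3 : p.eraseLast.length = n := by
          change p.length - 1 = n
          omega
        rwa [h3] at this
      obtain ⟨x', hx', hfx'⟩ := h (show f x ⤳ p.eraseLast.last from h1.le)
      have h4 : x' < x := by
        refine lt_of_le_not_ge hx' fun h5 => ?_
        have : f x' ⤳ f x := (show x' ⤳ x from h5).map f.continuous
        rw [hfx'] at this
        exact h1.not_ge this
      have h5 := ih x' (hfx'.symm ▸ h2)
      calc ((n + 1 : ℕ) : ℕ∞) = (n : ℕ∞) + 1 := by push_cast; rfl
        _ ≤ Order.height x' + 1 := add_le_add_left h5 1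
        _ ≤ Order.height x := Order.height_add_one_le h4
  by_contra hcon
  rw [not_le] at hcon
  obtain ⟨n, hn⟩ := ENat.ne_top_iff_exists.mp hcon.ne_top
  have := key (n + 1) x (by
    rw [← hn] at hcon
    exact_mod_cast Order.add_one_le_of_lt hcon)
  rw [← hn] at this
  have h6 : n + 1 ≤ n := by exact_mod_cast this
  omega

/-- Existence of a prime over `⊥` with algebraic quotient. -/
theorem exists_prime (A B : Type u) [CommRing A] [IsDomain A] [CommRing B] [IsDomain B] [Algebra A B]
    [FaithfulSMul A B] [Algebra.FiniteType A B] :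
    ∃ q : Ideal B, q.IsPrime ∧ q.comap (algebraMap A B) = ⊥ ∧ Algebra.IsAlgebraic A (B ⧸ q) := by
  let K := FractionRing A
  let D := K ⊗[A] B
  have hinj : Function.Injective (algebraMap K D) := by
    have h1 : Function.Injective (Algebra.linearMap A B) := FaithfulSMul.algebraMap_injective A B
    have h2 := Module.Flat.lTensor_preserves_injective_linearMap (M := K) _ h1
    have h3 : ∀ k : K, algebraMap K D k = (LinearMap.lTensor K (Algebra.linearMap A B)) (k ⊗ₜ[A] 1) := by
      intro k
      rw [LinearMap.lTensor_tmul, Algebra.linearMap_apply, map_one]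
      rfl
    intro k k' hkk
    rw [h3, h3] at hkk
    have h4 := h2 hkk
    have h5 := congrArg (TensorProduct.rid A K) h4
    simpa using h5
  have : Nontrivial D := hinj.nontrivial
  obtain ⟨m, hm⟩ := Ideal.exists_maximal D
  let q := m.comap (Algebra.TensorProduct.includeRight : B →ₐ[A] D).toRingHom
  have hq : q.IsPrime := Ideal.IsPrime.comap _
  let := Ideal.Quotient.field m
  have hfin : Module.Finite K (D ⧸ m) := finite_of_finite_type_of_isJacobsonRing K (D ⧸ m)
  refine ⟨q, hq, ?_, ?_⟩
  · rw [eq_bot_iff]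
    intro a ha
    have h1 : algebraMap A D a ∈ m := by
      have : (Algebra.TensorProduct.includeRight : B →ₐ[A] D) (algebraMap A B a) ∈ m := ha
      rwa [AlgHom.commutes] at this
    have h2 : algebraMap K (D ⧸ m) (algebraMap A K a) = 0 := by
      rw [← IsScalarTower.algebraMap_apply A K (D ⧸ m), IsScalarTower.algebraMap_apply A D (D ⧸ m)]
      exact Ideal.Quotient.eq_zero_iff_mem.mpr h1
    have h3 := (map_eq_zero _).mp h2
    exact (IsFractionRing.to_map_eq_zero_iff (K := K)).mp h3
  · let ψ : (B ⧸ q) →ₐ[A] (D ⧸ m) := Ideal.quotientMapₐ m (Algebra.TensorProduct.includeRight : B →ₐ[A] D) le_rfl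
    have hψ : Function.Injective ψ := Ideal.quotientMap_injective
    have h1 : Algebra.IsAlgebraic K (D ⧸ m) := Algebra.IsAlgebraic.of_finite K (D ⧸ m)
    have h2 : Algebra.IsAlgebraic A (D ⧸ m) := (IsFractionRing.comap_isAlgebraic_iff (A := A) (K := K)).mpr h1
    exact Algebra.IsAlgebraic.of_injective ψ hψ

/-- the generic point goes to the generic point -/
theorem map_genericPoint {X S : Scheme.{u}} (f : X ⟶ S) [IrreducibleSpace ↑S] [IrreducibleSpace ↑X]
    [IsDominant f] : f (genericPoint ↑X) = genericPoint ↑S := by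
  have h1 : IsGenericPoint (f (genericPoint ↑X)) (closure (f '' Set.univ)) :=
    (genericPoint_spec ↑X).image f.continuous
  have h2 : closure (f '' Set.univ) = Set.univ := by
    rw [Set.image_univ]
    exact (f.denseRange).closure_range
  rw [h2] at h1
  exact h1.eq (genericPoint_spec ↑S)

theorem evaluation_injective {X : Scheme.{u}} [IsIntegral X] {U : X.Opens} (hU : IsAffineOpen U) (x : X)
    (hgen : x = genericPoint X) (hx : x ∈ U) : Function.Injective (X.evaluation U x hx).hom := by
  subst hgen
  have : Nonempty U := ⟨⟨_, hx⟩⟩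
  rw [injective_iff_map_eq_zero]
  intro s hs
  by_contra hne
  have h1 : hU.primeIdealOf ⟨genericPoint X, hx⟩ = genericPoint (Spec Γ(X, U)) := hU.primeIdealOf_genericPoint
  have h2 : genericPoint (Spec Γ(X, U)) = (⊥ : PrimeSpectrum Γ(X, U)) := genericPoint_eq_bot_of_affine Γ(X, U)
  have h3 : s ∈ (hU.primeIdealOf ⟨genericPoint X, hx⟩).asIdeal.primeCompl := by
    rw [h1, h2]
    intro h4
    exact hne h4
  exact (DimIneq.mem_primeCompl_iff hU _ hx s).mp h3 hs

theorem exists_point {X Y : Scheme.{u}} [IsIntegral X] [IsIntegral Y] (f : X ⟶ Y) [IsDominant f]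
    [LocallyOfFiniteType f] (n : ℕ) (hn : DimIneq.td (f.residueFieldMap (genericPoint X)).hom = n) :
    ∃ z : X, f z = genericPoint Y ∧ Order.coheight z = n := by
  set ξ := genericPoint X with hξdef
  have hξ : f ξ = genericPoint Y := map_genericPoint f
  obtain ⟨V, hV, hxV, -⟩ := exists_isAffineOpen_mem_and_subset (X := Y) (U := ⊤) (x := f ξ) trivial
  obtain ⟨U, hU, hxU, hUV⟩ := exists_isAffineOpen_mem_and_subset (X := X) (U := f ⁻¹ᵁ V) (x := ξ) hxV
  replace hUV : U ≤ f ⁻¹ᵁ V := hUV
  have hneU : Nonempty U := ⟨⟨ξ, hxU⟩⟩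
  have hneV : Nonempty V := ⟨⟨f ξ, hxV⟩⟩
  let φ : Γ(Y, V) →+* Γ(X, U) := (f.appLE V U hUV).hom
  have hφ : φ.FiniteType := f.finiteType_appLE hV hU hUV
  let a := (Y.evaluation V (f ξ) hxV).hom
  let b := (X.evaluation U ξ hxU).hom
  let c := (f.residueFieldMap ξ).hom
  have ha : Function.Injective a := evaluation_injective hV _ hξ hxV
  have hb : Function.Injective b := evaluation_injective hU _ hξdef hxU
  have hc : c.comp a = b.comp φ := by
    ext s
    exact DimIneq.evaluation_appLE f V U hUV ξ hxU s
  have hinj : Function.Injective φ := by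
    have h1 : Function.Injective (b.comp φ) := by
      rw [← hc]
      exact c.injective.comp ha
    exact Function.Injective.of_comp (f := b) h1
  have htd : DimIneq.td φ = n := by
    have e1 := DimIneq.td_comp φ b hinj hb
    have e2 := DimIneq.td_comp a c ha c.injective
    have e3 : DimIneq.td a = 0 := DimIneq.td_eq_zero a (fun z => by
      obtain ⟨x, y, hy, hz⟩ := DimIneq.isRes_evaluation hV (f ξ) hxV z
      exact ⟨x, y, fun h0 => hy (by rw [h0, map_zero]), hz⟩)
    have e4 : DimIneq.td b = 0 := DimIneq.td_eq_zero b (fun z => by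
      obtain ⟨x, y, hy, hz⟩ := DimIneq.isRes_evaluation hU ξ hxU z
      exact ⟨x, y, fun h0 => hy (by rw [h0, map_zero]), hz⟩)
    rw [e3, zero_add] at e2
    rw [e4, add_zero] at e1
    rw [← e1, ← hc, e2]
    exact hn
  let i1 : Algebra Γ(Y, V) Γ(X, U) := φ.toAlgebra
  have i2 : FaithfulSMul Γ(Y, V) Γ(X, U) := (faithfulSMul_iff_algebraMap_injective _ _).2 hinj
  have i3 : Algebra.FiniteType Γ(Y, V) Γ(X, U) := hφ
  obtain ⟨q, hq, hq0, halg⟩ := exists_prime Γ(Y, V) Γ(X, U)
  obtain ⟨m, hm, hm'⟩ := CalgA.DimFormula.height_eq_trdeg_of_isAlgebraic_quotient q hq0 halg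
  have hmn : m = n := by
    have : Algebra.trdeg Γ(Y, V) Γ(X, U) = n := htd
    rw [this] at hm'
    exact_mod_cast hm'.symm
  subst hmn
  let Q : Spec Γ(X, U) := ⟨q, hq⟩
  refine ⟨hU.fromSpec Q, ?_, ?_⟩
  · have h1 : f (hU.fromSpec Q) = hV.fromSpec (Spec.map (f.appLE V U hUV) Q) := by
      rw [← Scheme.Hom.comp_apply, ← Scheme.Hom.comp_apply, hV.SpecMap_appLE_fromSpec f hU hUV]
    have h2 : Spec.map (f.appLE V U hUV) Q = (⊥ : PrimeSpectrum Γ(Y, V)) := PrimeSpectrum.ext hq0
    rw [h1, h2, ← genericPoint_eq_bot_of_affine Γ(Y, V)]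
    exact genericPoint_eq_of_isOpenImmersion hV.fromSpec
  · have h1 := coheight_eq_of_isOpenImmersion (x := Q) hU.fromSpec
    rw [h1, ← idealHeight_eq_coheight Γ(X, U) Q]
    exact hm

theorem krullDim_eq (X : Scheme.{u}) : topologicalKrullDim X = Order.krullDim X :=
  Order.krullDim_eq_of_orderIso irreducibleSetEquivPoints

/-- For a closed dominant morphism locally of finite type of integral schemes, the dimension of the source is at least
the dimension of the target plus the transcendence degree of the function field extension. -/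
theorem le_topologicalKrullDim {X Y : Scheme.{u}} [IsIntegral X] [IsIntegral Y] (f : X ⟶ Y) [IsDominant f]
    [LocallyOfFiniteType f] (n : ℕ) (hn : DimIneq.td (f.residueFieldMap (genericPoint X)).hom = n)
    (hf : IsClosedMap f) : topologicalKrullDim Y + n ≤ topologicalKrullDim X := by
  obtain ⟨z, hz, hzn⟩ := exists_point f n hn
  have h1 := height_le_of_specializingMap f hf.specializingMap z
  rw [krullDim_eq, krullDim_eq, ← Order.height_top_eq_krullDim (α := Y)]
  have h2 : (⊤ : Y) = f z := hz.symm
  rw [h2]
  have : Nonempty X := ⟨z⟩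
  rw [Order.krullDim_eq_iSup_height_add_coheight_of_nonempty]
  have h3 : (((Order.height (f z) : ℕ∞) : WithBot ℕ∞) + (n : WithBot ℕ∞)) =
      ((Order.height (f z) + Order.coheight z : ℕ∞) : WithBot ℕ∞) := by
    rw [hzn]
    rfl
  rw [h3]
  refine WithBot.coe_le_coe.2 ?_
  exact (add_le_add_left h1 _).trans (le_iSup (fun a : X => Order.height a + Order.coheight a) z)

end Groth.Agent.K385.DimClosed
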