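import Mathlib.RingTheory.Valuation.ValuationSubring
import Mathlib.RingTheory.Valuation.LocalSubring
import Mathlib.RingTheory.LocalRing.ResidueField.Basic

/-!
# Composite valuation rings, as preimages
-/

set_option autoImplicit false
set_option linter.unusedSectionVars false
universe u

namespace Groth.Agent.K385.CompVal

variable {A Ω : Type u} [CommRing A] [IsDomain A] [ValuationRing A] [Field Ω] (φ : A →+* Ω)
  [IsLocalHom φ] (W : ValuationSubring Ω)

/-- The composite valuation ring. -/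
abbrev comp : Subring A := W.toSubring.comap φ

include φ W

omit [IsDomain A] [ValuationRing A] in
theorem exists_inv (a : A) (ha : a ∉ comp φ W) : ∃ b : A, a * b = 1 ∧ b ∈ comp φ W := by
  have h1 : φ a ∉ W := ha
  have h0 : φ a ≠ 0 := fun h => h1 (h ▸ W.zero_mem)
  obtain ⟨u, rfl⟩ := isUnit_of_map_unit φ a (isUnit_iff_ne_zero.mpr h0)
  refine ⟨(u⁻¹ : Aˣ), by simp, ?_⟩
  change φ (u⁻¹ : Aˣ) ∈ W
  have h2 : φ (u⁻¹ : Aˣ) = (φ u)⁻¹ := by
    apply eq_inv_of_mul_eq_one_left
    rw [← map_mul]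
    simp
  rw [h2]
  exact (W.mem_or_inv_mem _).resolve_left h1

theorem valuationRing : ValuationRing (comp φ W) := by
  have key : ∀ a b c : A, ∀ (ha : a ∈ comp φ W) (hb : b ∈ comp φ W), a * c = b →
      ∃ c : comp φ W, (⟨a, ha⟩ : comp φ W) * c = ⟨b, hb⟩ ∨ (⟨b, hb⟩ : comp φ W) * c = ⟨a, ha⟩ := by
    intro a b c ha hb h
    by_cases hc : c ∈ comp φ W
    · exact ⟨⟨c, hc⟩, Or.inl (Subtype.ext h)⟩
    · obtain ⟨d, hd, hd'⟩ := exists_inv φ W c hc
      refine ⟨⟨d, hd'⟩, Or.inr (Subtype.ext ?_)⟩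
      change b * d = a
      rw [← h, mul_assoc, hd, mul_one]
  refine { cond' := ?_ }
  rintro ⟨a, ha⟩ ⟨b, hb⟩
  obtain ⟨c, hc | hc⟩ := ValuationRing.cond a b
  · exact key a b c ha hb hc
  · obtain ⟨d, hd⟩ := key b a c hb ha hc
    exact ⟨d, hd.symm⟩

theorem isFractionRing (K : Type u) [Field K] [Algebra A K] [IsFractionRing A K] :
    letI : Algebra (comp φ W) K := ((algebraMap A K).comp (comp φ W).subtype).toAlgebra
    IsFractionRing (comp φ W) K := by
  let _ : Algebra (comp φ W) K := ((algebraMap A K).comp (comp φ W).subtype).toAlgebra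
  have hinj : Function.Injective (algebraMap (comp φ W) K) :=
    (IsFractionRing.injective A K).comp Subtype.val_injective
  have h1 : ∀ a : A, ∃ s t : comp φ W, t ≠ 0 ∧ a * t.1 = s.1 := by
    intro a
    by_cases ha : a ∈ comp φ W
    · exact ⟨⟨a, ha⟩, 1, one_ne_zero, mul_one a⟩
    · obtain ⟨d, hd, hd'⟩ := exists_inv φ W a ha
      refine ⟨1, ⟨d, hd'⟩, ?_, hd⟩
      intro h
      have h2 : d = 0 := congrArg Subtype.val h
      rw [h2, mul_zero] at hd
      exact zero_ne_one hd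
  refine ⟨⟨fun y => ?_, fun z => ?_, fun {x y} h => ⟨1, by rw [hinj h]⟩⟩⟩
  · rw [isUnit_iff_ne_zero]
    intro h
    exact nonZeroDivisors.ne_zero y.2 (hinj (by rw [h, map_zero]))
  · obtain ⟨⟨a, b⟩, hab⟩ := IsLocalization.surj (nonZeroDivisors A) z
    obtain ⟨s, t, ht, hst⟩ := h1 a
    obtain ⟨s', t', ht', hst'⟩ := h1 b
    have hb : (b : A) ≠ 0 := nonZeroDivisors.ne_zero b.2
    have hs' : s' ≠ 0 := by
      intro h
      rw [h] at hst'
      change (b : A) * t'.1 = 0 at hst'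
      rcases mul_eq_zero.mp hst' with h3 | h3
      · exact hb h3
      · exact ht' (Subtype.ext h3)
    -- z = a / b = (s/t) / (s'/t') = s t' / (t s')
    refine ⟨⟨s * t', ⟨t * s', mem_nonZeroDivisors_of_ne_zero (mul_ne_zero ht hs')⟩⟩, ?_⟩
    change z * algebraMap A K (t.1 * s'.1) = algebraMap A K (s.1 * t'.1)
    dsimp only at hab
    rw [← hst, ← hst', map_mul, map_mul, map_mul, map_mul, ← hab]
    ring

theorem isLocalHom : IsLocalHom ((φ.comp (comp φ W).subtype).codRestrict W.toSubring (fun x => x.2)) := by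
  constructor
  rintro ⟨a, ha⟩ hu
  obtain ⟨v, hv⟩ := isUnit_iff_exists_inv.mp hu
  have h1 : φ a * (v : Ω) = 1 := congrArg Subtype.val hv
  have h0 : φ a ≠ 0 := by
    intro h
    rw [h, zero_mul] at h1
    exact zero_ne_one h1
  obtain ⟨u, hu'⟩ := isUnit_of_map_unit φ a (isUnit_iff_ne_zero.mpr h0)
  refine isUnit_iff_exists_inv.mpr ⟨⟨(u⁻¹ : Aˣ), ?_⟩, Subtype.ext ?_⟩
  · change φ (u⁻¹ : Aˣ) ∈ W
    have h2 : φ (u⁻¹ : Aˣ) = (v : Ω) := by
      have h3 : φ a * φ (u⁻¹ : Aˣ) = 1 := by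
        rw [← map_mul, ← hu']
        simp
      exact mul_left_cancel₀ h0 (h3.trans h1.symm)
    rw [h2]
    exact v.2
  · change a * (u⁻¹ : Aˣ) = 1
    rw [← hu']
    simp

omit φ

/-- A valuation ring `R` with fraction field `K` is the preimage in `K` of any valuation ring of an
extension field dominating it. -/
theorem mem_of_dominates {R K : Type u} [CommRing R] [IsDomain R] [ValuationRing R] [Field K] [Algebra R K]
    [IsFractionRing R K] (ι : K →+* Ω) (h : ∀ r : R, ι (algebraMap R K r) ∈ W)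
    (hloc : IsLocalHom ((ι.comp (algebraMap R K)).codRestrict W.toSubring h)) (k : K) (hk : ι k ∈ W) :
    ∃ r : R, algebraMap R K r = k := by
  by_contra hcon
  have hk0 : k ≠ 0 := by
    rintro rfl
    exact hcon ⟨0, map_zero _⟩
  rcases ValuationRing.isInteger_or_isInteger R k with ⟨r, hr⟩ | ⟨r, hr⟩
  · exact hcon ⟨r, hr⟩
  · apply hcon
    have h1 : IsUnit ((ι.comp (algebraMap R K)).codRestrict W.toSubring h r) := by
      refine isUnit_iff_exists_inv.mpr ⟨⟨ι k, hk⟩, Subtype.ext ?_⟩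
      change ι (algebraMap R K r) * ι k = 1
      rw [hr, ← map_mul, inv_mul_cancel₀ hk0, map_one]
    obtain ⟨u, rfl⟩ := hloc.map_nonunit r h1
    refine ⟨(u⁻¹ : Rˣ), ?_⟩
    have h2 : algebraMap R K (u⁻¹ : Rˣ) * algebraMap R K u = 1 := by
      rw [← map_mul]
      simp
    rw [hr] at h2
    exact (eq_inv_of_mul_eq_one_left h2).trans (inv_inv k)

end Groth.Agent.K385.CompVal
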