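import Groth.Agent.CycB.DimIneq
import Groth.Agent.CycB.LocQuot
import Groth.Agent.VarietyB.DimRing
import Groth.Agent.Sga3C.DimTop

/-!
# The dimension formula for morphisms locally of finite type over a locally Noetherian base
-/

set_option autoImplicit false

universe u

open CategoryTheory Limits AlgebraicGeometry TopologicalSpace

namespace Groth.Agent.K385.DimFormula

open Groth.Agent.CycB

theorem closure_mem_irreducibleComponents {X : Type*} [TopologicalSpace X]
    [T0Space X] [QuasiSober X] {y : X} (h : ∀ y' : X, y' ⤳ y → y' = y) :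
    closure {y} ∈ irreducibleComponents X := by
  refine ⟨isIrreducible_singleton.closure, ?_⟩
  intro Z hZ hyZ
  obtain ⟨z, hz⟩ := QuasiSober.sober hZ.closure isClosed_closure
  have hzy : z ⤳ y := by
    rw [specializes_iff_mem_closure, hz.def]
    exact subset_closure (hyZ (subset_closure rfl))
  have := h z hzy
  subst this
  rw [hz.def]
  exact subset_closure

variable {X : Scheme.{u}}

/-- The dimension of `O_{X,x}` is the dimension of `O_{X,x}/𝔭_ζ` for some generic point `ζ` of an irreducible component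
through `x`. -/
theorem exists_generic_ringKrullDim_locQuot [IsLocallyNoetherian X] (x : X) :
    ∃ (ζ : X) (h : ζ ⤳ x), closure {ζ} ∈ irreducibleComponents ↥X ∧
      ringKrullDim (Cyc.LocQuot x ζ h) = ringKrullDim (X.presheaf.stalk x) := by
  let R := X.presheaf.stalk x
  have : IsNoetherianRing R := inferInstance
  have hfin : (IsLocalRing.maximalIdeal R).FiniteHeight := inferInstance
  obtain ⟨q, hq, hqle, hheight⟩ := VarietyB.DimRing.exists_minimalPrimes_height_eq (IsLocalRing.maximalIdeal R)
  have hqp : q.IsPrime := hq.1.1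
  let P : PrimeSpectrum R := ⟨q, hqp⟩
  let ζ : X := X.fromSpecStalk x P
  have hζ : ζ ⤳ x := LocQuot.fromSpecStalk_specializes P
  have hP : LocQuot.primeOf hζ = P := LocQuot.primeOf_fromSpecStalk P
  refine ⟨ζ, hζ, ?_, ?_⟩
  · apply closure_mem_irreducibleComponents
    intro ζ' h'
    have h2 : ζ' ⤳ x := h'.trans hζ
    have h3 : X.fromSpecStalk x (LocQuot.primeOf h2) = ζ' := LocQuot.fromSpecStalk_primeOf h2
    have h4 : (LocQuot.primeOf h2 : PrimeSpectrum R) ⤳ P := by
      refine ((X.fromSpecStalk x).isEmbedding.isInducing.specializes_iff (x := LocQuot.primeOf h2) (y := P)).mp ?_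
      rw [h3]
      exact h'
    have h5 : (LocQuot.primeOf h2 : PrimeSpectrum R) ≤ P := (PrimeSpectrum.le_iff_specializes _ _).mpr h4
    have h6 : (LocQuot.primeOf h2).asIdeal = q :=
      le_antisymm h5 (hq.2 ⟨(LocQuot.primeOf h2).isPrime, bot_le⟩ h5)
    have h7 : LocQuot.primeOf h2 = P := PrimeSpectrum.ext h6
    rw [← h3, h7]
  · have hker : RingHom.ker (Cyc.specMap x ζ hζ) = q := by
      rw [← LocQuot.primeOf_asIdeal, hP]
    change ringKrullDim (R ⧸ RingHom.ker (Cyc.specMap x ζ hζ)) = _
    rw [hker]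
    have hnt : Nontrivial (R ⧸ q) := Ideal.Quotient.nontrivial_iff.mpr hqp.ne_top
    have hlr : IsLocalRing (R ⧸ q) := .of_surjective' (Ideal.Quotient.mk q) Ideal.Quotient.mk_surjective
    have hmax : (IsLocalRing.maximalIdeal R).map (Ideal.Quotient.mk q) = IsLocalRing.maximalIdeal (R ⧸ q) := by
      have h8 : ((IsLocalRing.maximalIdeal R).map (Ideal.Quotient.mk q)).IsMaximal := by
        refine Ideal.IsMaximal.map_of_surjective_of_ker_le Ideal.Quotient.mk_surjective ?_
        rwa [Ideal.mk_ker]
      exact IsLocalRing.eq_maximalIdeal h8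
    rw [← IsLocalRing.maximalIdeal_height_eq_ringKrullDim, ← IsLocalRing.maximalIdeal_height_eq_ringKrullDim,
      ← hmax, hheight]

/-- The dimension formula: `dim O_{X,x} + trdeg κ(x)/κ(s) ≤ dim O_{S,s} + E`. -/
theorem stalk_le {S : Scheme.{u}} [IsLocallyNoetherian S]
    (f : X ⟶ S) [LocallyOfFiniteType f] (x : X) (n E : ℕ)
    (hn : letI := (f.residueFieldMap x).hom.toAlgebra
      Algebra.trdeg (S.residueField (f.base x)) (X.residueField x) = n)
    (hE : ∀ ξ : X, closure {ξ} ∈ irreducibleComponents ↥X → ξ ⤳ x →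
      letI := (f.residueFieldMap ξ).hom.toAlgebra
      Algebra.trdeg (S.residueField (f.base ξ)) (X.residueField ξ) ≤ E) :
    ringKrullDim (X.presheaf.stalk x) + n ≤ ringKrullDim (S.presheaf.stalk (f.base x)) + E := by
  have : IsLocallyNoetherian X := LocallyOfFiniteType.isLocallyNoetherian f
  obtain ⟨ζ, hζ, hgen, hdim⟩ := exists_generic_ringKrullDim_locQuot x
  obtain ⟨dX, dY, h1, h2, h3⟩ := DimIneq.dim_ineq f hζ
  have h4 : DimIneq.td (f.residueFieldMap x).hom = (n : Cardinal.{u}) := hn
  have h5 : DimIneq.td (f.residueFieldMap ζ).hom ≤ (E : Cardinal.{u}) := hE ζ hgen hζ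
  have h6 : dX + n ≤ dY + E := by
    rw [h4] at h3
    have := h3.trans (add_le_add_right h5 _)
    exact_mod_cast this
  have h7 : ringKrullDim (Cyc.LocQuot (f x) (f ζ) (hζ.map f.continuous)) ≤ ringKrullDim (S.presheaf.stalk (f x)) :=
    ringKrullDim_quotient_le _
  rw [h2] at h7
  rw [← hdim, h1]
  refine le_trans ?_ (add_le_add_left h7 _)
  exact_mod_cast h6

/-- The dimension formula without the residue field term. -/
theorem stalk_le' {S : Scheme.{u}} [IsLocallyNoetherian S]
    (f : X ⟶ S) [LocallyOfFiniteType f] (x : X) (E : ℕ)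
    (hE : ∀ ξ : X, closure {ξ} ∈ irreducibleComponents ↥X → ξ ⤳ x →
      letI := (f.residueFieldMap ξ).hom.toAlgebra
      Algebra.trdeg (S.residueField (f.base ξ)) (X.residueField ξ) ≤ E) :
    ringKrullDim (X.presheaf.stalk x) ≤ ringKrullDim (S.presheaf.stalk (f.base x)) + E := by
  have : IsLocallyNoetherian X := LocallyOfFiniteType.isLocallyNoetherian f
  obtain ⟨ζ, hζ, hgen, hdim⟩ := exists_generic_ringKrullDim_locQuot x
  obtain ⟨dX, dY, h1, h2, h3⟩ := DimIneq.dim_ineq f hζ
  have h5 : DimIneq.td (f.residueFieldMap ζ).hom ≤ (E : Cardinal.{u}) := hE ζ hgen hζ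
  have h6 : dX ≤ dY + E := by
    have := (self_le_add_right (dX : Cardinal.{u}) _).trans (h3.trans (add_le_add_right h5 _))
    exact_mod_cast this
  have h7 : ringKrullDim (Cyc.LocQuot (f x) (f ζ) (hζ.map f.continuous)) ≤ ringKrullDim (S.presheaf.stalk (f x)) :=
    ringKrullDim_quotient_le _
  rw [h2] at h7
  rw [← hdim, h1]
  refine le_trans ?_ (add_le_add_left h7 _)
  exact_mod_cast h6

theorem topologicalKrullDim_eq (X : Scheme.{u}) :
    topologicalKrullDim X = ⨆ x : X, ringKrullDim (X.presheaf.stalk x) := by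
  rw [show topologicalKrullDim X = Order.krullDim X from
    Order.krullDim_eq_of_orderIso irreducibleSetEquivPoints]
  simp_rw [ringKrullDim_stalk_eq_coheight]
  exact Order.krullDim_eq_iSup_coheight

theorem topologicalKrullDim_le {S : Scheme.{u}} [IsLocallyNoetherian S]
    (f : X ⟶ S) [LocallyOfFiniteType f] (E : ℕ)
    (hE : ∀ ξ : X, closure {ξ} ∈ irreducibleComponents ↥X →
      letI := (f.residueFieldMap ξ).hom.toAlgebra
      Algebra.trdeg (S.residueField (f.base ξ)) (X.residueField ξ) ≤ E) :
    topologicalKrullDim ↥X ≤ topologicalKrullDim ↥S + E := by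
  rw [topologicalKrullDim_eq X, topologicalKrullDim_eq S]
  refine iSup_le fun x => (stalk_le' f x E fun ξ h _ => hE ξ h).trans ?_
  exact add_le_add_left (le_iSup (fun s : S => ringKrullDim (S.presheaf.stalk s)) (f x)) _

end Groth.Agent.K385.DimFormula
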