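import Groth.Agent.Ega2.LocalExt
import Groth.Agent.Ega4late.H542.GlueSup
import Groth.Agent.CurvesC.NormSections
import Mathlib.AlgebraicGeometry.ValuativeCriterion

/-!
# Extending morphisms to proper schemes over points with valuation local rings
-/

set_option autoImplicit false
universe u
open CategoryTheory CategoryTheory.Limits AlgebraicGeometry

namespace Groth.Agent.K385.ExtVal

/-- A point of a reduced scheme with finitely many irreducible components whose local ring is a domain has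
an integral open neighbourhood. -/
theorem exists_isIntegral_nhd_of_finite {X : Scheme.{u}} [IsReduced X] (hX : (irreducibleComponents ↥X).Finite)
    (x : X) (hdom : IsDomain (X.presheaf.stalk x)) :
    ∃ W : X.Opens, x ∈ W ∧ IsIntegral (W : Scheme.{u}) := by
  have hcl : IsClosed (⋃₀ (irreducibleComponents (X : Type u) \ {irreducibleComponent x})) := by
    rw [Set.sUnion_eq_biUnion]
    exact hX.sdiff.isClosed_biUnion fun W hW => isClosed_of_mem_irreducibleComponents W hW.1
  let W : X.Opens := ⟨_, hcl.isOpen_compl⟩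
  have hxW : x ∈ W := by
    rintro ⟨Z, hZ, hxZ⟩
    exact hZ.2 (CurvesC.NormSections.eq_of_mem_of_mem hdom hZ.1
      (irreducibleComponent_mem_irreducibleComponents x) hxZ mem_irreducibleComponent)
  have hWZ : (W : Set X) ⊆ irreducibleComponent x := by
    intro y hy
    by_contra hyZ
    exact hy ⟨irreducibleComponent y, ⟨irreducibleComponent_mem_irreducibleComponents y, fun h =>
        hyZ (by rw [Set.mem_singleton_iff] at h; rw [← h]; exact mem_irreducibleComponent)⟩,
        mem_irreducibleComponent⟩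
  have hirr : IsIrreducible (W : Set X) :=
    ⟨⟨x, hxW⟩, isIrreducible_irreducibleComponent.isPreirreducible.open_subset W.2 hWZ⟩
  have : IrreducibleSpace (W : Scheme.{u}) := Subtype.irreducibleSpace hirr
  have : IsReduced (W : Scheme.{u}) := isReduced_of_isOpenImmersion W.ι
  exact ⟨W, hxW, isIntegral_of_irreducibleSpace_of_isReduced _⟩

theorem isGermInjectiveAt_of {X : Scheme.{u}} (x : X)
    (hX : (IsReduced X ∧ (irreducibleComponents ↥X).Finite) ∨ IsNoetherian X)
    (hdom : IsDomain (X.presheaf.stalk x)) : X.IsGermInjectiveAt x := by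
  rcases hX with ⟨h1, h2⟩ | h
  · obtain ⟨W, hxW, hW⟩ := exists_isIntegral_nhd_of_finite h2 x hdom
    exact inferInstanceAs (X.IsGermInjectiveAt (W.ι ⟨x, hxW⟩))
  · infer_instance

theorem exists_lift_of_existence {X Y : Scheme.{u}} {f : X ⟶ Y} (h : ValuativeCriterion.Existence f)
    (R : CommRingCat.{u}) (K : Type u)
    [IsDomain R] [ValuationRing R] [Field K] [Algebra R K] [IsFractionRing R K]
    (i₁ : Spec (CommRingCat.of K) ⟶ X) (i₂ : Spec R ⟶ Y)
    (w : i₁ ≫ f = Spec.map (CommRingCat.ofHom (algebraMap R K)) ≫ i₂) :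
    ∃ l : Spec R ⟶ X, Spec.map (CommRingCat.ofHom (algebraMap R K)) ≫ l = i₁ ∧ l ≫ f = i₂ := by
  obtain ⟨l, hl₁, hl₂⟩ := (h { R := R, K := K, i₁ := i₁, i₂ := i₂, commSq := ⟨w⟩ }).exists_lift
  exact ⟨l, hl₁, hl₂⟩

theorem exists_extension {X Y S : Scheme.{u}} (p : X ⟶ S) (q : Y ⟶ S)
    [IsProper q] (x : X) (U : X.Opens) (f : (U : Scheme.{u}) ⟶ Y) (hf : f ≫ q = U.ι ≫ p)
    (hx : x ∈ closure (U : Set ↥X)) [X.IsGermInjectiveAt x]
    [IsDomain (X.presheaf.stalk x)] [ValuationRing (X.presheaf.stalk x)] :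
    ∃ (U' : X.Opens) (hUU' : U ≤ U'), x ∈ U' ∧
      ∃ f' : (U' : Scheme.{u}) ⟶ Y, f' ≫ q = U'.ι ≫ p ∧ X.homOfLE hUU' ≫ f' = f := by
  let K : Type u := FractionRing (X.presheaf.stalk x)
  obtain ⟨W, hyW, hW, hWint, hdomW⟩ := Ega2.LocalExt.exists_integral_nhd x K
  let alg : Spec (CommRingCat.of K) ⟶ Spec (X.presheaf.stalk x) :=
    Spec.map (CommRingCat.ofHom (algebraMap (X.presheaf.stalk x) K))
  let k : Spec (CommRingCat.of K) ⟶ X := alg ≫ X.fromSpecStalk x
  have hjW : (alg ≫ W.fromSpecStalkOfMem x hyW) ≫ W.ι = k := by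
    simp [k]
  -- the image of `k` lies in `U`
  have hkV : Set.range k ⊆ (U : Set X) := by
    have h1 : (W.ι ⁻¹ᵁ U : Set W).Nonempty := by
      obtain ⟨v, hvW, hvV⟩ := mem_closure_iff.mp hx (W : Set X) W.isOpen hyW
      exact ⟨⟨v, hvW⟩, hvV⟩
    obtain ⟨z, hz⟩ := hdomW.denseRange.exists_mem_open (W.ι ⁻¹ᵁ U).isOpen h1
    rintro _ ⟨z', rfl⟩
    have hzz : z' = z := Subsingleton.elim _ _
    subst hzz
    have h3 : k z' = W.ι ((alg ≫ W.fromSpecStalkOfMem x hyW) z') := by
      rw [← hjW]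
      rfl
    rw [h3]
    exact hz
  let kV : Spec (CommRingCat.of K) ⟶ U := IsOpenImmersion.lift U.ι k (by simpa using hkV)
  have hkV' : kV ≫ U.ι = k := IsOpenImmersion.lift_fac _ _ _
  have hval : ValuativeCriterion.Existence q := by
    have h1 : UniversallyClosed q := inferInstance
    rw [UniversallyClosed.eq_valuativeCriterion] at h1
    exact h1.1
  obtain ⟨l, hl₁, hl₂⟩ := exists_lift_of_existence hval (X.presheaf.stalk x) K (kV ≫ f)
    (X.fromSpecStalk x ≫ p) (by
      rw [Category.assoc, hf, ← Category.assoc, hkV']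
      exact Category.assoc _ _ _)
  change alg ≫ l = kV ≫ f at hl₁
  change l ≫ q = X.fromSpecStalk x ≫ p at hl₂
  obtain ⟨U₁, hxU₁, g, hqg, hgf⟩ := spread_out_of_isGermInjective' p q l hl₂
  let U' : X.Opens := U₁ ⊓ W
  let g' : (U' : Scheme.{u}) ⟶ Y := X.homOfLE (inf_le_left : U' ≤ U₁) ≫ g
  let T : X.Opens := U ⊓ U'
  have hyU' : x ∈ U' := ⟨hxU₁, hyW⟩
  have hkT : Set.range k ⊆ (T : Set X) := by
    intro z hz
    refine ⟨hkV hz, ?_⟩
    obtain ⟨z', rfl⟩ := hz
    have : k z' = U'.ι ((alg ≫ U'.fromSpecStalkOfMem x hyU') z') := by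
      have : (alg ≫ U'.fromSpecStalkOfMem x hyU') ≫ U'.ι = k := by simp [k]
      rw [← this]
      rfl
    rw [this]
    exact ((alg ≫ U'.fromSpecStalkOfMem x hyU') z').2
  let t : Spec (CommRingCat.of K) ⟶ T := IsOpenImmersion.lift T.ι k (by simpa using hkT)
  have ht : t ≫ T.ι = k := IsOpenImmersion.lift_fac _ _ _
  have hTW : T ≤ W := inf_le_right.trans inf_le_right
  have hdomT : IsDominant t := by
    have h1 : t ≫ X.homOfLE hTW = alg ≫ W.fromSpecStalkOfMem x hyW := by
      rw [← cancel_mono W.ι, Category.assoc, Scheme.homOfLE_ι, ht, hjW]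
    have h2 : IsDominant (t ≫ X.homOfLE hTW) := h1 ▸ hdomW
    exact IsDominant.of_comp_of_isOpenImmersion t (X.homOfLE hTW)
  have hTag : X.homOfLE (inf_le_left : T ≤ U) ≫ f = X.homOfLE (inf_le_right : T ≤ U') ≫ g' := by
    have : IsReduced (T : Scheme.{u}) := isReduced_of_isOpenImmersion (X.homOfLE hTW)
    refine ext_of_isDominant_of_isSeparated q ?_ t ?_
    · simp only [g', Category.assoc, hgf, hf, Scheme.homOfLE_ι_assoc]
    · have h1 : t ≫ X.homOfLE (inf_le_left : T ≤ U) = kV := by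
        rw [← cancel_mono U.ι, Category.assoc, Scheme.homOfLE_ι, ht, hkV']
      have h2 : t ≫ X.homOfLE (inf_le_right : T ≤ U') ≫ X.homOfLE (inf_le_left : U' ≤ U₁) =
          alg ≫ U₁.fromSpecStalkOfMem x hxU₁ := by
        rw [← cancel_mono U₁.ι]
        simp only [Category.assoc, Scheme.homOfLE_ι, ht, Scheme.Opens.fromSpecStalkOfMem_ι, k]
      have h3 : t ≫ X.homOfLE (inf_le_right : T ≤ U') ≫ g' = alg ≫ l := by
        simp only [g']
        rw [hqg, ← Category.assoc alg, ← h2]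
        simp only [Category.assoc]
      rw [h3, hl₁, ← h1, Category.assoc]
  obtain ⟨F, hF₁, hF₂⟩ := Ega4late.H542.GlueSup.exists_glue_sup U U' f g' hTag
  refine ⟨U ⊔ U', le_sup_left, Or.inr hyU', F, ?_, hF₁⟩
  refine Ega4late.H542.GlueSup.hom_ext_sup U U' ?_ ?_
  · rw [← Category.assoc, hF₁, hf, Scheme.homOfLE_ι_assoc]
  · rw [← Category.assoc, hF₂, Scheme.homOfLE_ι_assoc]
    simp only [g', Category.assoc, hgf, Scheme.homOfLE_ι_assoc]

end Groth.Agent.K385.ExtVal
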