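import Groth.Agent.S2080
import Groth.Agent.S2081
import Mathlib.AlgebraicGeometry.ResidueField
import Mathlib.AlgebraicGeometry.Morphisms.QuasiFinite
import Mathlib.AlgebraicGeometry.Morphisms.Finite
import Mathlib.AlgebraicGeometry.FunctionField
import Mathlib.AlgebraicGeometry.Morphisms.Proper

/-!
# Dominant morphisms of integral schemes with finite extension of function fields
-/

set_option autoImplicit false
set_option linter.unusedSectionVars false
universe u
open CategoryTheory CategoryTheory.Limits AlgebraicGeometry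

namespace Groth.Agent.K385.GenFin

/-- Residue field extensions at quasi-finite points are finite. -/
theorem residueFieldMap_finite {X S : Scheme.{u}} (f : X ⟶ S) (x : X) (hx : f.QuasiFiniteAt x) :
    (f.residueFieldMap x).hom.Finite := by
  have h1 : LocallyQuasiFinite (X.fromSpecResidueField x ≫ f) := by
    have := Scheme.Hom.quasiFiniteAt_iff.mp hx
    rw [Scheme.fromSpecResidueField, Category.assoc]
    infer_instance
  rw [← Scheme.Hom.SpecMap_residueFieldMap_fromSpecResidueField] at h1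
  have h2 : LocallyQuasiFinite (Spec.map (f.residueFieldMap x)) :=
    LocallyQuasiFinite.of_comp _ (S.fromSpecResidueField (f x))
  have h3 : (f.residueFieldMap x).hom.QuasiFinite := (HasRingHomProperty.Spec_iff (P := @LocallyQuasiFinite)).mp h2
  algebraize [(f.residueFieldMap x).hom]
  have : Algebra.QuasiFinite (S.residueField (f x)) (X.residueField x) := h3
  exact Module.Finite.of_quasiFinite

theorem isIso_residue_genericPoint (X : Scheme.{u}) [IsIntegral X] : IsIso (X.residue (genericPoint X)) := by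
  refine (ConcreteCategory.isIso_iff_bijective _).mpr ⟨?_, IsLocalRing.residue_surjective⟩
  change Function.Injective (IsLocalRing.residue (X.presheaf.stalk (genericPoint X)))
  rw [RingHom.injective_iff_ker_eq_bot, IsLocalRing.ker_residue]
  have h : IsField (X.presheaf.stalk (genericPoint X)) := (inferInstance : Field X.functionField).toIsField
  exact (IsLocalRing.isField_iff_maximalIdeal_eq).mp h

/-- At the generic point, quasi-finiteness is finiteness of the residue field extension. -/
theorem quasiFiniteAt_of_finite {X S : Scheme.{u}} [IsIntegral X] (f : X ⟶ S)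
    (h : (f.residueFieldMap (genericPoint X)).hom.Finite) : f.QuasiFiniteAt (genericPoint X) := by
  rw [Scheme.Hom.quasiFiniteAt_iff]
  have h1 : IsFinite (Spec.map (f.residueFieldMap (genericPoint X))) := (IsFinite.SpecMap_iff _).mpr h
  have h2 : LocallyQuasiFinite (X.fromSpecResidueField (genericPoint X) ≫ f) := by
    rw [← Scheme.Hom.SpecMap_residueFieldMap_fromSpecResidueField]
    infer_instance
  have h3 := isIso_residue_genericPoint X
  rw [Scheme.fromSpecResidueField, Category.assoc] at h2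
  have h4 : X.fromSpecStalk (genericPoint X) ≫ f = inv (Spec.map (X.residue (genericPoint X))) ≫
      Spec.map (X.residue (genericPoint X)) ≫ X.fromSpecStalk (genericPoint X) ≫ f := by
    rw [IsIso.inv_hom_id_assoc]
  rw [h4]
  infer_instance

section

variable {X Y : Scheme.{u}} [IsIntegral X] (f : X ⟶ Y) [LocallyOfFiniteType f]

/-- If the fibre through the generic point is just this point then `f` is quasi-finite there. -/
theorem quasiFiniteAt_of_forall (h : ∀ x : X, f x = f (genericPoint X) → x = genericPoint X) :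
    f.QuasiFiniteAt (genericPoint X) := by
  rw [Scheme.Hom.quasiFiniteAt_iff_isOpen_singleton_asFiber]
  have h1 : ({f.asFiber (genericPoint X)} : Set (f.fiber (f (genericPoint X)))) = Set.univ := by
    rw [Set.eq_univ_iff_forall]
    intro z
    apply (f.fiberι _).isEmbedding.injective
    have h2 : (f.fiberι (f (genericPoint X))) (f.asFiber (genericPoint X)) = genericPoint X :=
      f.fiberι_asFiber _
    rw [h2]
    apply h
    have h3 : f.fiberι (f (genericPoint X)) z ∈ f ⁻¹' {f (genericPoint X)} := by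
      rw [← Scheme.Hom.range_fiberι]
      exact ⟨z, rfl⟩
    exact h3
  rw [h1]
  exact isOpen_univ

/-- If `f` is quasi-finite at the generic point, this is the only point of its fibre. -/
theorem eq_of_quasiFiniteAt (h : f.QuasiFiniteAt (genericPoint X)) (x : X)
    (hx : f x = f (genericPoint X)) : x = genericPoint X := by
  have h1 := h.isClopen_singleton_asFiber.1
  have h2 : x ∈ Set.range (f.fiberι (f (genericPoint X))) := by
    rw [Scheme.Hom.range_fiberι]
    exact hx
  obtain ⟨z, rfl⟩ := h2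
  have h3 : f.asFiber (genericPoint X) ⤳ z := by
    rw [← (f.fiberι _).isEmbedding.isInducing.specializes_iff, f.fiberι_asFiber]
    exact genericPoint_specializes _
  have h4 : z ∈ ({f.asFiber (genericPoint X)} : Set (f.fiber (f (genericPoint X)))) :=
    h3.mem_closed h1 rfl
  rw [Set.mem_singleton_iff.mp h4, f.fiberι_asFiber]

end

theorem map_genericPoint {X Y : Scheme.{u}} [IrreducibleSpace X] [IrreducibleSpace Y] (f : X ⟶ Y)
    [IsDominant f] : f (genericPoint X) = genericPoint Y := by
  have h := (genericPoint_spec X).image f.continuous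
  rw [Set.image_univ, f.denseRange.closure_eq] at h
  exact h.eq (genericPoint_spec Y)

theorem closure_mem_irreducibleComponents_iff {X : Scheme.{u}} [IrreducibleSpace X] (x : X) :
    closure {x} ∈ irreducibleComponents X ↔ x = genericPoint X := by
  rw [irreducibleComponents_eq_singleton, Set.mem_singleton_iff]
  constructor
  · intro h
    have : IsGenericPoint x Set.univ := h
    exact this.eq (genericPoint_spec X)
  · rintro rfl
    exact genericPoint_spec X

theorem isFinite_morphismRestrict_of_le {X Y : Scheme.{u}} (f : X ⟶ Y) {V W : Y.Opens} (h : V ≤ W)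
    (hW : IsFinite (f ∣_ W)) : IsFinite (f ∣_ V) := by
  have h1 : IsPullback (f ⁻¹ᵁ V).ι (f ∣_ V) f V.ι := (isPullback_morphismRestrict f V).flip
  have h2 : IsPullback (f ⁻¹ᵁ W).ι (f ∣_ W) f W.ι := (isPullback_morphismRestrict f W).flip
  have h3 : V.ι = Y.homOfLE h ≫ W.ι := by simp
  rw [h3] at h1
  have h4 := IsPullback.of_right' h1 h2
  exact MorphismProperty.of_isPullback (P := @IsFinite) h4 hW

section

variable {X Y : Scheme.{u}} [IsIntegral X] [IsIntegral Y] (f : X ⟶ Y)
    [IsDominant f] [LocallyOfFiniteType f]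

/-- Restriction to affine opens on which `f` becomes finite. -/
theorem exists_resLE_isFinite (h : ∀ x : X, f x = genericPoint Y → x = genericPoint X) :
    ∃ (U : X.Opens) (V : Y.Opens) (hUV : U ≤ f ⁻¹ᵁ V), IsAffineOpen U ∧ IsAffineOpen V ∧
      Nonempty ↥U ∧ IsFinite (f.resLE V U hUV) := by
  have hf := map_genericPoint f
  obtain ⟨V₀, hV₀, hηV, -⟩ := exists_isAffineOpen_mem_and_subset (U := (⊤ : Y.Opens)) (x := genericPoint Y) trivial
  obtain ⟨U₀, hU₀, hξU, hUV₀⟩ := exists_isAffineOpen_mem_and_subset (U := f ⁻¹ᵁ V₀) (x := genericPoint X)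
    (by change f (genericPoint X) ∈ V₀; rw [hf]; exact hηV)
  have : IsAffine V₀ := hV₀
  have : IsAffine U₀ := hU₀
  let g : (U₀ : Scheme.{u}) ⟶ V₀ := f.resLE V₀ U₀ hUV₀
  have hg : g ≫ V₀.ι = U₀.ι ≫ f := Scheme.Hom.resLE_comp_ι f hUV₀
  have hgft : LocallyOfFiniteType g := by
    have : LocallyOfFiniteType (g ≫ V₀.ι) := by rw [hg]; infer_instance
    exact locallyOfFiniteType_of_comp g V₀.ι
  let η' : (V₀ : Scheme.{u}) := ⟨genericPoint Y, hηV⟩
  have : Nonempty V₀ := ⟨η'⟩
  have hη' : η' = genericPoint (V₀ : Scheme.{u}) := by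
    apply V₀.ι.isOpenEmbedding.injective
    exact (genericPoint_eq_of_isOpenImmersion V₀.ι).symm
  have hfin : (g.base ⁻¹' {η'}).Finite := by
    refine (Set.finite_singleton (⟨genericPoint X, hξU⟩ : (U₀ : Scheme.{u}))).subset ?_
    intro z hz
    have hz : g z = η' := hz
    apply U₀.ι.isOpenEmbedding.injective
    change U₀.ι z = genericPoint X
    apply h
    rw [← Scheme.Hom.comp_apply, ← hg, Scheme.Hom.comp_apply, hz]
    rfl
  obtain ⟨V₁, hV₁, hηV₁, hfinV⟩ := (S2080.result g η' (by
    rw [closure_mem_irreducibleComponents_iff]; exact hη')).mp hfin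
  have hle : (U₀.ι ''ᵁ (g ⁻¹ᵁ V₁)) ≤ f ⁻¹ᵁ (V₀.ι ''ᵁ V₁) := by
    rintro _ ⟨z, hz, rfl⟩
    refine ⟨g z, hz, ?_⟩
    change V₀.ι (g z) = f (U₀.ι z)
    rw [← Scheme.Hom.comp_apply, hg, Scheme.Hom.comp_apply]
  refine ⟨U₀.ι ''ᵁ (g ⁻¹ᵁ V₁), V₀.ι ''ᵁ V₁, hle, ?_, ?_, ?_, ?_⟩
  · have h1 : IsAffine V₁ := hV₁
    have h2 : IsAffine (g ⁻¹ᵁ V₁) := isAffine_of_isAffineHom (g ∣_ V₁)
    have h3 : IsAffineOpen (g ⁻¹ᵁ V₁) := h2
    exact h3.image_of_isOpenImmersion U₀.ι
  · exact hV₁.image_of_isOpenImmersion V₀.ι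
  · refine ⟨⟨genericPoint X, ⟨⟨genericPoint X, hξU⟩, ?_, rfl⟩⟩⟩
    change g ⟨genericPoint X, hξU⟩ ∈ V₁
    have h4 : g ⟨genericPoint X, hξU⟩ = η' := by
      apply V₀.ι.isOpenEmbedding.injective
      rw [← Scheme.Hom.comp_apply, hg, Scheme.Hom.comp_apply]
      exact hf
    rw [h4]
    exact hηV₁
  · have h5 : f.resLE (V₀.ι ''ᵁ V₁) (U₀.ι ''ᵁ (g ⁻¹ᵁ V₁)) hle =
        (U₀.ι.isoImage (g ⁻¹ᵁ V₁)).inv ≫ g ∣_ V₁ ≫ (V₀.ι.isoImage V₁).hom := by
      rw [← cancel_mono (V₀.ι ''ᵁ V₁).ι, Scheme.Hom.resLE_comp_ι, Category.assoc, Category.assoc,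
        Scheme.Hom.isoImage_hom_ι, ← Category.assoc (g ∣_ V₁), morphismRestrict_ι, Category.assoc, hg,
        ← Scheme.Hom.isoImage_inv_ι_assoc]
    rw [h5]
    infer_instance

/-- If `f` restricts to a finite morphism of nonempty opens then it is quasi-finite at the generic point. -/
theorem quasiFiniteAt_of_resLE (U : X.Opens) (V : Y.Opens) (hUV : U ≤ f ⁻¹ᵁ V) [hne : Nonempty ↥U]
    [IsFinite (f.resLE V U hUV)] : f.QuasiFiniteAt (genericPoint X) := by
  have hξ : genericPoint X ∈ U := ((genericPoint_spec X).mem_open_set_iff U.2).mpr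
    (by obtain ⟨x⟩ := hne; exact ⟨x.1, trivial, x.2⟩)
  have h1 : LocallyQuasiFinite (U.ι ≫ f) := by
    rw [← Scheme.Hom.resLE_comp_ι f hUV]
    infer_instance
  have h2 := (U.ι ≫ f).quasiFiniteAt ⟨genericPoint X, hξ⟩
  exact Scheme.Hom.quasiFiniteAt_comp_iff_of_isOpenImmersion.mp h2

theorem isFinite_of_isSeparated [IsSeparated f] (U : X.Opens) (V : Y.Opens) (hUV : U ≤ f ⁻¹ᵁ V) [hne : Nonempty ↥U]
    [IsFinite (f.resLE V U hUV)] : IsFinite (f ∣_ V) := by
  let j : (U : Scheme.{u}) ⟶ (f ⁻¹ᵁ V : X.Opens) := X.homOfLE hUV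
  have hj : j ≫ f ∣_ V = f.resLE V U hUV := by
    rw [← cancel_mono V.ι, Category.assoc, morphismRestrict_ι, Scheme.homOfLE_ι_assoc,
      Scheme.Hom.resLE_comp_ι]
  have hp : IsProper (j ≫ f ∣_ V) := by rw [hj]; infer_instance
  have hjp : IsProper j := IsProper.of_comp j (f ∣_ V)
  have hsurj : Surjective j := by
    rw [surjective_iff]
    rw [← Set.range_eq_univ]
    have : Nonempty (f ⁻¹ᵁ V : X.Opens) := ⟨j hne.some⟩
    have hcl : IsClopen (Set.range j) := ⟨j.isClosedMap.isClosed_range, j.isOpenEmbedding.isOpen_range⟩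
    have : IrreducibleSpace (f ⁻¹ᵁ V : X.Opens) := inferInstanceAs (IrreducibleSpace (f ⁻¹ᵁ V : X.Opens).toScheme)
    exact (isClopen_iff.mp hcl).resolve_left (Set.nonempty_iff_ne_empty.mp ⟨_, ⟨hne.some, rfl⟩⟩)
  have hiso : IsIso j := (isIso_iff_isOpenImmersion_and_surjective j).mpr ⟨inferInstance, hsurj⟩
  have h2 : f ∣_ V = inv j ≫ f.resLE V U hUV := by
    rw [← hj, IsIso.inv_hom_id_assoc]
  rw [h2]
  infer_instance

end

end Groth.Agent.K385.GenFin
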