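import Groth.Agent.IntSh.K877.ProjEmb
import Groth.Agent.CohqB.ProjBC
import Groth.Agent.Mor.K386.HQP

/-!
# A projective morphism is H-projective over affine opens of the base
-/

set_option autoImplicit false
universe u
open CategoryTheory CategoryTheory.Limits AlgebraicGeometry

namespace Groth.Agent.K385.LocHProj

/-- Over an affine open of the base, a projective morphism is H-projective. -/
theorem isHProjective_restrict_of_isProjective {X S : Scheme.{u}} (f : X ⟶ S) (h : RelProj.IsProjective f)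
    (V : S.Opens) (hV : IsAffineOpen V) : RelProj.IsHProjective (f ∣_ V) := by
  obtain ⟨𝒮, P, p, chart, e, hgen, hft, hP, rfl⟩ := h
  obtain ⟨T, hT1, hT⟩ := hft V hV
  obtain ⟨n, i, hi, hiS⟩ := IntSh.K877.ProjEmb.exists_closedImmersion (𝒮.deg V hV) (𝒮.strZero V hV).hom
    (hgen V hV) T hT1 hT
  have h1 : RelProj.IsHProjective (K35.RelProjExists.toSpecO 𝒮 V hV) := by
    refine ⟨n, i ≫ (CohqB.ProjBC.projSpaceOverIso n Γ(S, V)).inv, inferInstance, ?_⟩
    rw [Category.assoc]
    exact (congrArg (fun k => i ≫ k) (CohqB.ProjBC.projSpaceOverIso_inv_toBase n Γ(S, V))).trans hiS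
  have h2 : RelProj.IsHProjective (p ∣_ V) := by
    refine K386.HQP.isHProjective_of_isPullback (f := K35.RelProjExists.toSpecO 𝒮 V hV)
      (g := hV.isoSpec.hom) (a := (chart V hV).hom) (IsPullback.of_horiz_isIso ⟨?_⟩) h1
    rw [K35.RelProjBasic.restrict_eq hP V hV, Category.assoc, Category.assoc, Iso.inv_hom_id,
      Category.comp_id]
  refine K386.HQP.isHProjective_of_isPullback (f := p ∣_ V) (g := 𝟙 _) (a := e.hom ∣_ (p ⁻¹ᵁ V))
    (IsPullback.of_horiz_isIso ⟨?_⟩) h2
  rw [Category.comp_id]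
  exact (morphismRestrict_comp e.hom p V).symm

/-- Locally projective morphisms are locally H-projective. -/
theorem locally_isHProjective {X S : Scheme.{u}} (f : X ⟶ S) (h : RelProj.IsLocallyProjective f) (s : S) :
    ∃ U : S.Opens, s ∈ U ∧ RelProj.IsHProjective (f ∣_ U) := by
  obtain ⟨U, hsU, hU⟩ := h s
  obtain ⟨V, hV, hsV, -⟩ := exists_isAffineOpen_mem_and_subset (X := U) (U := ⊤) (x := ⟨s, hsU⟩) trivial
  refine ⟨U.ι ''ᵁ V, ⟨⟨s, hsU⟩, hsV, rfl⟩, ?_⟩
  exact (K386.HQP.isHProjective_iff_of_arrow_iso (morphismRestrictRestrict f U V)).mp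
    (isHProjective_restrict_of_isProjective (f ∣_ U) hU V hV)

end Groth.Agent.K385.LocHProj
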