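import Mathlib.AlgebraicGeometry.ValuativeCriterion
import Mathlib.AlgebraicGeometry.Stalk

/-!
# Morphisms from spectra of local rings: factoring, uniqueness and gluing along pullback squares of rings
-/

set_option autoImplicit false
universe u
open CategoryTheory CategoryTheory.Limits AlgebraicGeometry

namespace Groth.Agent.K385.LocalGlue

theorem exists_ringHom_of_range {B R T : Type*} [CommRing B] [CommRing R] [CommRing T] (P : R →+* T)
    (hP : Function.Injective P) (Φ : B →+* T) (h : ∀ x, Φ x ∈ P.range) :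
    ∃ φ : B →+* R, P.comp φ = Φ := by
  let e : R ≃+* P.range :=
    RingEquiv.ofBijective P.rangeRestrict
      ⟨fun a b h => hP (congrArg Subtype.val h), P.rangeRestrict_surjective⟩
  refine ⟨(e.symm : _ →+* R).comp (Φ.codRestrict P.range h), ?_⟩
  ext x
  change P (e.symm (Φ.codRestrict P.range h x)) = Φ x
  exact congrArg Subtype.val (e.apply_symm_apply (Φ.codRestrict P.range h x))

/-- A morphism from the spectrum of a local ring factors through any affine open containing the image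
of the closed point. -/
theorem exists_factor {R : Type u} [CommRing R] [IsLocalRing R] {X : Scheme.{u}}
    (g : Spec (CommRingCat.of R) ⟶ X) {U : X.Opens} (hU : IsAffineOpen U)
    (h : g (IsLocalRing.closedPoint R) ∈ U) :
    ∃ φ : Γ(X, U) ⟶ CommRingCat.of R, g = Spec.map φ ≫ hU.fromSpec := by
  have hr : Set.range g ⊆ Set.range hU.fromSpec := by
    rw [hU.range_fromSpec]
    rintro _ ⟨y, rfl⟩
    exact ((IsLocalRing.specializes_closedPoint (R := R) y).map g.continuous).mem_open U.2 h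
  obtain ⟨φ, hφ⟩ := Spec.map_surjective (IsOpenImmersion.lift hU.fromSpec g hr)
  exact ⟨φ, by rw [hφ, IsOpenImmersion.lift_fac]⟩

/-- Two morphisms from the spectrum of a local ring which agree at the closed point and on the
spectrum of an overring are equal. -/
theorem ext_of_injective {R R₁ : Type u} [CommRing R] [IsLocalRing R] [CommRing R₁] {X : Scheme.{u}}
    (t₁ t₂ : Spec (CommRingCat.of R) ⟶ X)
    (hc : t₁ (IsLocalRing.closedPoint R) = t₂ (IsLocalRing.closedPoint R))
    (ψ : R →+* R₁) (hψ : Function.Injective ψ)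
    (h : Spec.map (CommRingCat.ofHom ψ) ≫ t₁ = Spec.map (CommRingCat.ofHom ψ) ≫ t₂) : t₁ = t₂ := by
  obtain ⟨_, ⟨U, hU, rfl⟩, hxU, -⟩ := X.isBasis_affineOpens.exists_subset_of_mem_open
    (Set.mem_univ (t₁ (IsLocalRing.closedPoint R))) isOpen_univ
  have hU : IsAffineOpen U := hU
  obtain ⟨φ₁, h₁⟩ := exists_factor t₁ hU hxU
  obtain ⟨φ₂, h₂⟩ := exists_factor t₂ hU (hc ▸ hxU)
  rw [h₁, h₂] at h ⊢
  rw [← Category.assoc, ← Category.assoc, cancel_mono, ← Spec.map_comp, ← Spec.map_comp, Spec.map_inj] at h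
  congr 2
  ext x
  apply hψ
  exact congrArg (fun k => k.hom x) h

/-- Gluing of morphisms from the spectra of two local rings along a pullback square of rings. -/
theorem exists_glue {R₀ R₁ R₂ K : Type u} [CommRing R₀] [CommRing R₁] [CommRing R₂] [CommRing K]
    [IsLocalRing R₁] [IsLocalRing R₂] [IsLocalRing K] (a : R₁ →+* K) [IsLocalHom a] (b : R₂ →+* K)
    (p₁ : R₀ →+* R₁) (p₂ : R₀ →+* R₂) (hpb : ∀ x y, a x = b y → ∃ z, p₁ z = x ∧ p₂ z = y)
    (hinj : ∀ z z', p₁ z = p₁ z' → p₂ z = p₂ z' → z = z') {X : Scheme.{u}}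
    (g₁ : Spec (CommRingCat.of R₁) ⟶ X) (g₂ : Spec (CommRingCat.of R₂) ⟶ X)
    (h : Spec.map (CommRingCat.ofHom a) ≫ g₁ = Spec.map (CommRingCat.ofHom b) ≫ g₂) :
    ∃ g₀ : Spec (CommRingCat.of R₀) ⟶ X, Spec.map (CommRingCat.ofHom p₁) ≫ g₀ = g₁ ∧
      Spec.map (CommRingCat.ofHom p₂) ≫ g₀ = g₂ := by
  obtain ⟨_, ⟨U, hU, rfl⟩, hxU, -⟩ := X.isBasis_affineOpens.exists_subset_of_mem_open
    (Set.mem_univ (g₂ (IsLocalRing.closedPoint R₂))) isOpen_univ
  have hU : IsAffineOpen U := hU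
  have hxU' : g₁ (IsLocalRing.closedPoint R₁) ∈ U := by
    have h1 : g₁ (IsLocalRing.closedPoint R₁) =
        g₂ (Spec.map (CommRingCat.ofHom b) (IsLocalRing.closedPoint K)) := by
      rw [← Scheme.Hom.comp_apply, ← h, Scheme.Hom.comp_apply]
      congr 1
      exact (IsLocalRing.comap_closedPoint a).symm
    rw [h1]
    exact ((IsLocalRing.specializes_closedPoint (R := R₂) _).map g₂.continuous).mem_open U.2 hxU
  obtain ⟨φ₁, h₁⟩ := exists_factor g₁ hU hxU'
  obtain ⟨φ₂, h₂⟩ := exists_factor g₂ hU hxU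
  rw [h₁, h₂, ← Category.assoc, ← Category.assoc, cancel_mono, ← Spec.map_comp, ← Spec.map_comp,
    Spec.map_inj] at h
  have h' : ∀ x, a (φ₁.hom x) = b (φ₂.hom x) := fun x => congrArg (fun k => k.hom x) h
  obtain ⟨φ, hφ⟩ := exists_ringHom_of_range (p₁.prod p₂)
    (fun z z' hz => hinj z z' (congrArg Prod.fst hz) (congrArg Prod.snd hz)) (φ₁.hom.prod φ₂.hom)
    (fun x => by
      obtain ⟨z, hz1, hz2⟩ := hpb _ _ (h' x)
      exact ⟨z, Prod.ext hz1 hz2⟩)
  refine ⟨Spec.map (CommRingCat.ofHom φ) ≫ hU.fromSpec, ?_, ?_⟩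
  · rw [h₁, ← Category.assoc, ← Spec.map_comp]
    congr 2
    ext x
    exact congrArg Prod.fst (RingHom.congr_fun hφ x)
  · rw [h₂, ← Category.assoc, ← Spec.map_comp]
    congr 2
    ext x
    exact congrArg Prod.snd (RingHom.congr_fun hφ x)

end Groth.Agent.K385.LocalGlue
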