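import Groth.Agent.FlatA.FiniteFreeSplit
import Mathlib.RingTheory.Finiteness.ModuleFinitePresentation
import Mathlib.RingTheory.AdjoinRoot

/-!
# Finite free covers by algebras whose spectrum is a union of sections
-/

set_option autoImplicit false
universe u

namespace Groth.Agent.K385.SplitSections

open Polynomial

/-- Given a monic polynomial over `A` which splits and finitely many elements of an algebra `B` which are roots
of it, there is a finite free algebra `D` mapping to `B` with these elements in the range, with finitely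
many `A`-algebra maps `D → A` such that every prime of `D` contains the kernel of one of them. -/
theorem exists_sections {A : Type u} [CommRing A] (P : A[X]) (s : Multiset A)
    (hP : P = (s.map (fun a => X - C a)).prod) {B : Type u} [CommRing B] [Algebra A B] (l : List B)
    (hl : ∀ b ∈ l, aeval b P = 0) :
    ∃ (D : Type u) (_ : CommRing D) (_ : Algebra A D), Module.Finite A D ∧ Module.Free A D ∧
      ∃ (φ : D →ₐ[A] B), (∀ b ∈ l, b ∈ φ.range) ∧ ∃ L : List (D →ₐ[A] A),
        ∀ q : Ideal D, q.IsPrime → ∃ σ ∈ L, RingHom.ker (σ : D →ₐ[A] A) ≤ q := by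
  have hPm : P.Monic := by
    rw [hP]
    exact monic_multiset_prod_of_monic _ _ (fun a _ => monic_X_sub_C a)
  induction l with
  | nil =>
    refine ⟨A, inferInstance, inferInstance, inferInstance, inferInstance, Algebra.ofId A B, by simp,
      [AlgHom.id A A], fun q _ => ⟨_, List.mem_singleton_self _, ?_⟩⟩
    intro x hx
    have : x = 0 := hx
    rw [this]
    exact q.zero_mem
  | cons b l ih =>
    obtain ⟨D, _, _, hfin, hfree, φ, hφ, L, hL⟩ := ih (fun b hb => hl b (List.mem_cons_of_mem _ hb))
    let Q : D[X] := P.map (algebraMap A D)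
    have hQ : Q.Monic := hPm.map _
    have hfin' : Module.Finite D (AdjoinRoot Q) := hQ.finite_adjoinRoot
    have hfree' : Module.Free D (AdjoinRoot Q) := hQ.free_adjoinRoot
    have hb0 : Polynomial.eval₂ (φ : D →+* B) b Q = 0 := by
      change Polynomial.eval₂ (φ : D →+* B) b (P.map (algebraMap A D)) = 0
      rw [eval₂_map]
      have : (φ : D →+* B).comp (algebraMap A D) = algebraMap A B := φ.comp_algebraMap
      rw [this]
      exact hl b (List.mem_cons_self (a := b) (l := l))
    let φ' : AdjoinRoot Q →ₐ[A] B := AdjoinRoot.liftAlgHom Q φ b hb0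
    have hroot : ∀ (σ : D →ₐ[A] A) (a : A), a ∈ s → Polynomial.eval₂ (σ : D →+* A) a Q = 0 := by
      intro σ a ha
      change Polynomial.eval₂ (σ : D →+* A) a (P.map (algebraMap A D)) = 0
      rw [eval₂_map]
      have : (σ : D →+* A).comp (algebraMap A D) = RingHom.id A := σ.comp_algebraMap
      rw [this, hP, eval₂_id, eval_multiset_prod, Multiset.map_map]
      exact Multiset.prod_eq_zero (Multiset.mem_map.mpr ⟨a, ha, by simp⟩)
    let sec : (D →ₐ[A] A) → {a // a ∈ s} → (AdjoinRoot Q →ₐ[A] A) := fun σ a =>
      AdjoinRoot.liftAlgHom Q σ a.1 (hroot σ a.1 a.2)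
    refine ⟨AdjoinRoot Q, inferInstance, inferInstance, Module.Finite.trans D _,
      Module.Free.trans (S := D), φ', ?_, L.flatMap (fun σ => s.attach.toList.map (sec σ)), ?_⟩
    · intro b' hb'
      rcases List.mem_cons.mp hb' with rfl | hb'
      · refine ⟨AdjoinRoot.root Q, ?_⟩
        exact AdjoinRoot.lift_root hb0
      · obtain ⟨d, hd⟩ := hφ b' hb'
        refine ⟨AdjoinRoot.of Q d, ?_⟩
        rw [← hd]
        exact AdjoinRoot.lift_of hb0
    · intro q hq
      obtain ⟨σ, hσ, hle⟩ := hL (q.comap (AdjoinRoot.of Q)) inferInstance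
      -- some root difference lies in `q`
      have h1 : (s.map (fun a => AdjoinRoot.root Q - algebraMap A (AdjoinRoot Q) a)).prod ∈ q := by
        have h2 : (s.map (fun a => AdjoinRoot.root Q - algebraMap A (AdjoinRoot Q) a)).prod =
            aeval (AdjoinRoot.root Q) P := by
          conv_rhs => rw [hP, map_multiset_prod, Multiset.map_map]
          simp
        have h3 : aeval (AdjoinRoot.root Q) P = 0 := by
          have h4 : aeval (AdjoinRoot.root Q) Q = 0 := by
            rw [AdjoinRoot.aeval_eq, AdjoinRoot.mk_self]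
          rw [aeval_def, eval₂_map] at h4
          exact h4
        rw [h2, h3]
        exact q.zero_mem
      obtain ⟨a, ha, haq⟩ : ∃ a ∈ s, AdjoinRoot.root Q - algebraMap A (AdjoinRoot Q) a ∈ q := by
        obtain ⟨y, hy, h⟩ := (hq.multiset_prod_mem_iff_exists_mem _).mp h1
        obtain ⟨a, ha, rfl⟩ := Multiset.mem_map.mp hy
        exact ⟨a, ha, h⟩
      refine ⟨sec σ ⟨a, ha⟩, ?_, ?_⟩
      · rw [List.mem_flatMap]
        exact ⟨σ, hσ, List.mem_map.mpr ⟨⟨a, ha⟩, by simp, rfl⟩⟩
      · intro x hx
        obtain ⟨g, rfl⟩ := AdjoinRoot.mk_surjective x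
        have hx' : Polynomial.eval₂ (σ : D →+* A) a g = 0 := by
          have h5 : sec σ ⟨a, ha⟩ (AdjoinRoot.mk Q g) = 0 := hx
          exact (AdjoinRoot.lift_mk (hroot σ a ha) g).symm.trans h5
        -- `g(r) - g(a) ∈ (r - a)`
        have h6 : AdjoinRoot.mk Q g - AdjoinRoot.of Q (g.eval (algebraMap A D a)) ∈ q := by
          have h7 : (X - C (algebraMap A D a)) ∣ g - C (g.eval (algebraMap A D a)) :=
            X_sub_C_dvd_sub_C_eval
          obtain ⟨k, hk⟩ := h7
          have h8 := congrArg (AdjoinRoot.mk Q) hk
          rw [map_sub, map_mul, map_sub, AdjoinRoot.mk_C, AdjoinRoot.mk_X, AdjoinRoot.mk_C] at h8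
          rw [h8]
          refine q.mul_mem_right _ ?_
          exact haq
        have h9 : AdjoinRoot.of Q (g.eval (algebraMap A D a)) ∈ q := by
          apply hle
          change σ (g.eval (algebraMap A D a)) = 0
          have h11 : Polynomial.eval₂ (σ : D →+* A) (σ (algebraMap A D a)) g = 0 := by
            rw [σ.commutes]
            exact hx'
          rw [← h11]
          exact (Polynomial.eval₂_at_apply (σ : D →+* A) (algebraMap A D a)).symm
        have h10 := q.add_mem h6 h9
        rwa [sub_add_cancel] at h10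

end Groth.Agent.K385.SplitSections
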