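import Groth.Agent.Mor.K385.LocalGlue
import Groth.Agent.Mor.K385.CompVal
import Groth.Agent.S2121

/-!
# Valuative criterion with generic points in a dense subscheme
-/

set_option autoImplicit false
universe u
open CategoryTheory CategoryTheory.Limits AlgebraicGeometry

namespace Groth.Agent.K385.ValDense

theorem isLocalHom_of_closedPoint {A Ω : Type u} [CommRing A] [IsLocalRing A] [Field Ω] (φ : A →+* Ω)
    (h : ∀ y : PrimeSpectrum Ω, PrimeSpectrum.comap φ y = IsLocalRing.closedPoint A) : IsLocalHom φ := by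
  constructor
  intro a ha
  by_contra hcon
  have h1 : a ∈ (IsLocalRing.closedPoint A).asIdeal := hcon
  rw [← h ⊥] at h1
  exact ha.ne_zero h1

theorem setup {U X S : Scheme.{u}} (f : X ⟶ S) (h : U ⟶ X) [QuasiCompact h] (hd : DenseRange h.base)
    {R K : Type u} [CommRing R] [IsDomain R] [ValuationRing R] [Field K] [Algebra R K]
    [IsFractionRing R K] (i₁ : Spec (CommRingCat.of K) ⟶ X) :
    ∃ (A : Type u) (_ : CommRing A) (_ : IsDomain A) (_ : ValuationRing A)
      (x' : Spec (CommRingCat.of (FractionRing A)) ⟶ U) (y' : Spec (CommRingCat.of A) ⟶ X)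
      (Ω : Type u) (_ : Field Ω) (φ : A →+* Ω) (_ : IsLocalHom φ) (ι : K →+* Ω) (W : ValuationSubring Ω)
      (hW : ∀ r : R, ι (algebraMap R K r) ∈ W),
      x' ≫ h = Spec.map (CommRingCat.ofHom (algebraMap A (FractionRing A))) ≫ y' ∧
      Spec.map (CommRingCat.ofHom φ) ≫ y' = Spec.map (CommRingCat.ofHom ι) ≫ i₁ ∧
      IsLocalHom ((ι.comp (algebraMap R K)).codRestrict W.toSubring hW) := by
  obtain ⟨A, _, _, _, x', y', hxy, hy⟩ := S2121.result h (i₁ (IsLocalRing.closedPoint K))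
    (hd (i₁ (IsLocalRing.closedPoint K)))
  obtain ⟨ω, hω₁, hω₂⟩ := Scheme.Pullback.exists_preimage_pullback (f := i₁) (g := y')
    (IsLocalRing.closedPoint K) (IsLocalRing.closedPoint A) hy.symm
  let P := pullback i₁ y'
  obtain ⟨ι, hι⟩ := Spec.map_surjective (P.fromSpecResidueField ω ≫ pullback.fst i₁ y')
  obtain ⟨φ, hφ⟩ := Spec.map_surjective (P.fromSpecResidueField ω ≫ pullback.snd i₁ y')
  obtain ⟨W, hW, hloc⟩ := IsLocalRing.exists_factor_valuationRing (ι.hom.comp (algebraMap R K))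
  refine ⟨A, inferInstance, inferInstance, inferInstance, x', y', P.residueField ω, inferInstance,
    φ.hom, ?_, ι.hom, W, hW, hxy, ?_, hloc⟩
  · apply isLocalHom_of_closedPoint
    intro y
    change Spec.map φ y = _
    rw [hφ, Scheme.Hom.comp_apply, Scheme.fromSpecResidueField_apply, hω₂]
  · change Spec.map φ ≫ y' = Spec.map ι ≫ i₁
    rw [hι, hφ, Category.assoc, Category.assoc, pullback.condition]

variable {U X S : Scheme.{u}} (f : X ⟶ S) (h : U ⟶ X)

section

variable {A : Type u} [CommRing A] [IsDomain A] [ValuationRing A]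
  {Ω : Type u} [Field Ω] (φ : A →+* Ω) [IsLocalHom φ] (W : ValuationSubring Ω)

/-- The map from the composite valuation ring to `W`. -/
abbrev toW : CompVal.comp φ W →+* W :=
  (φ.comp (CompVal.comp φ W).subtype).codRestrict W.toSubring (fun x => x.2)

/-- Gluing over the composite valuation ring. -/
theorem glueC {X : Scheme.{u}} (g₁ : Spec (CommRingCat.of A) ⟶ X) (g₂ : Spec (CommRingCat.of W) ⟶ X)
    (h : Spec.map (CommRingCat.ofHom φ) ≫ g₁ = Spec.map (CommRingCat.ofHom W.subtype) ≫ g₂) :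
    ∃ g₀ : Spec (CommRingCat.of (CompVal.comp φ W)) ⟶ X,
      Spec.map (CommRingCat.ofHom (CompVal.comp φ W).subtype) ≫ g₀ = g₁ ∧
      Spec.map (CommRingCat.ofHom (toW φ W)) ≫ g₀ = g₂ := by
  refine LocalGlue.exists_glue φ W.subtype (CompVal.comp φ W).subtype (toW φ W) ?_ ?_ g₁ g₂ h
  · intro x y hxy
    exact ⟨⟨x, by change φ x ∈ W; rw [hxy]; exact y.2⟩, rfl, Subtype.ext hxy⟩
  · intro z z' hz _
    exact Subtype.ext hz

end

/-- The hypothesis, split into existence and uniqueness. -/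
structure Hyp : Prop where
  ex : ∀ (A K : Type u) [CommRing A] [IsDomain A] [ValuationRing A] [Field K] [Algebra A K]
    [IsFractionRing A K] (x : Spec (CommRingCat.of K) ⟶ U) (i₂ : Spec (CommRingCat.of A) ⟶ S),
    (x ≫ h) ≫ f = Spec.map (CommRingCat.ofHom (algebraMap A K)) ≫ i₂ →
    ∃ l : Spec (CommRingCat.of A) ⟶ X, Spec.map (CommRingCat.ofHom (algebraMap A K)) ≫ l = x ≫ h ∧
      l ≫ f = i₂
  uniq : ∀ (A K : Type u) [CommRing A] [IsDomain A] [ValuationRing A] [Field K] [Algebra A K]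
    [IsFractionRing A K] (x : Spec (CommRingCat.of K) ⟶ U) (l₁ l₂ : Spec (CommRingCat.of A) ⟶ X),
    Spec.map (CommRingCat.ofHom (algebraMap A K)) ≫ l₁ = x ≫ h →
    Spec.map (CommRingCat.ofHom (algebraMap A K)) ≫ l₂ = x ≫ h → l₁ ≫ f = l₂ ≫ f → l₁ = l₂

theorem hyp_of (H : ∀ sq : ValuativeCommSq f, (∃ i : Spec (.of sq.K) ⟶ U, i ≫ h = sq.i₁) →
      Nonempty (Unique sq.commSq.LiftStruct)) : Hyp f h := by
  constructor
  · intro A K _ _ _ _ _ _ x i₂ w
    obtain ⟨u⟩ := H { R := A, K := K, i₁ := x ≫ h, i₂ := i₂, commSq := ⟨w⟩ } ⟨x, rfl⟩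
    exact ⟨u.default.l, u.default.fac_left, u.default.fac_right⟩
  · intro A K _ _ _ _ _ _ x l₁ l₂ h₁ h₂ h12
    obtain ⟨u⟩ := H { R := A, K := K, i₁ := x ≫ h, i₂ := l₁ ≫ f, commSq := ⟨by
      rw [← h₁, Category.assoc]⟩ } ⟨x, rfl⟩
    have h3 := u.uniq ⟨l₁, h₁, rfl⟩
    have h4 := u.uniq ⟨l₂, h₂, h12.symm⟩
    exact congrArg CommSq.LiftStruct.l (h3.trans h4.symm)

variable {f h}

theorem existence [QuasiCompact h] (hd : DenseRange h.base) (H : Hyp f h) :
    ValuativeCriterion.Existence f := by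
  rintro ⟨R, K, i₁, i₂, ⟨w⟩⟩
  obtain ⟨A, _, _, _, x', y', Ω, _, φ, hφ, ι, W, hW, hxy, hyι, hloc⟩ := setup f h hd (R := R) i₁
  let ρ : R →+* W := (ι.comp (algebraMap R K)).codRestrict W.toSubring hW
  have hρinj : Function.Injective ρ := by
    intro a b hab
    exact IsFractionRing.injective R K (ι.injective (congrArg Subtype.val hab))
  -- the composite valuation ring
  have := CompVal.valuationRing φ W
  let algC : Algebra (CompVal.comp φ W) (FractionRing A) :=
    ((algebraMap A (FractionRing A)).comp (CompVal.comp φ W).subtype).toAlgebra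
  have := CompVal.isFractionRing φ W (FractionRing A)
  have e1 : CommRingCat.ofHom ρ ≫ CommRingCat.ofHom W.subtype =
      CommRingCat.ofHom (algebraMap R K) ≫ CommRingCat.ofHom ι := by
    ext x; rfl
  have e1' : Spec.map (CommRingCat.ofHom W.subtype) ≫ Spec.map (CommRingCat.ofHom ρ) =
      Spec.map (CommRingCat.ofHom ι) ≫ Spec.map (CommRingCat.ofHom (algebraMap R K)) := by
    rw [← Spec.map_comp, ← Spec.map_comp, e1]
  obtain ⟨j, hj₁, hj₂⟩ := glueC φ W (y' ≫ f) (Spec.map (CommRingCat.ofHom ρ) ≫ i₂) (by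
    rw [← Category.assoc, hyι, ← Category.assoc, e1', Category.assoc, Category.assoc, w])
  have e2 : Spec.map (CommRingCat.ofHom (algebraMap (CompVal.comp φ W) (FractionRing A))) =
      Spec.map (CommRingCat.ofHom (algebraMap A (FractionRing A))) ≫
        Spec.map (CommRingCat.ofHom (CompVal.comp φ W).subtype) := by
    rw [← Spec.map_comp]
    rfl
  obtain ⟨l, hl₁, hl₂⟩ := H.ex (CompVal.comp φ W) (FractionRing A) x' j (by
    rw [hxy, Category.assoc, ← hj₁, e2, Category.assoc])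
  have hA : Spec.map (CommRingCat.ofHom (CompVal.comp φ W).subtype) ≫ l = y' := by
    refine H.uniq A (FractionRing A) x' _ _ ?_ hxy.symm ?_
    · rw [← Category.assoc, ← e2, hl₁]
    · rw [Category.assoc, hl₂, hj₁]
  have e3 : Spec.map (CommRingCat.ofHom W.subtype) ≫ Spec.map (CommRingCat.ofHom (toW φ W)) =
      Spec.map (CommRingCat.ofHom φ) ≫ Spec.map (CommRingCat.ofHom (CompVal.comp φ W).subtype) := by
    rw [← Spec.map_comp, ← Spec.map_comp]
    rfl
  have hιloc : IsLocalHom ι := inferInstance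
  obtain ⟨l', hl'₁, hl'₂⟩ := LocalGlue.exists_glue ι W.subtype (algebraMap R K) ρ (fun x y hxy => by
      obtain ⟨r, hr⟩ := CompVal.mem_of_dominates W ι hW hloc x (by rw [hxy]; exact y.2)
      refine ⟨r, hr, Subtype.ext ?_⟩
      change ι (algebraMap R K r) = y
      rw [hr, hxy]
      rfl) (fun z z' hz _ => IsFractionRing.injective R K hz)
    i₁ (Spec.map (CommRingCat.ofHom (toW φ W)) ≫ l) (by
      rw [← Category.assoc, e3, Category.assoc, hA, hyι])
  refine ⟨⟨⟨l', hl'₁, ?_⟩⟩⟩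
  refine LocalGlue.ext_of_injective _ _ ?_ ρ hρinj ?_
  · have hcl : Spec.map (CommRingCat.ofHom ρ) (IsLocalRing.closedPoint W) = IsLocalRing.closedPoint R :=
      IsLocalRing.comap_closedPoint ρ
    rw [← hcl, ← Scheme.Hom.comp_apply, ← Scheme.Hom.comp_apply, ← Category.assoc, hl'₂,
      Category.assoc, hl₂, hj₂]
  · rw [← Category.assoc, hl'₂, Category.assoc, hl₂, hj₂]

theorem uniqueness [QuasiCompact h] (hd : DenseRange h.base) (H : Hyp f h) :
    ValuativeCriterion.Uniqueness f := by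
  rintro ⟨R, K, i₁, i₂, ⟨w⟩⟩
  constructor
  rintro ⟨l₁, hl₁, hl₁'⟩ ⟨l₂, hl₂, hl₂'⟩
  obtain ⟨A, _, _, _, x', y', Ω, _, φ, hφ, ι, W, hW, hxy, hyι, hloc⟩ := setup f h hd (R := R) i₁
  let ρ : R →+* W := (ι.comp (algebraMap R K)).codRestrict W.toSubring hW
  have hρinj : Function.Injective ρ := by
    intro a b hab
    exact IsFractionRing.injective R K (ι.injective (congrArg Subtype.val hab))
  -- the composite valuation ring
  have := CompVal.valuationRing φ W
  let algC : Algebra (CompVal.comp φ W) (FractionRing A) :=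
    ((algebraMap A (FractionRing A)).comp (CompVal.comp φ W).subtype).toAlgebra
  have := CompVal.isFractionRing φ W (FractionRing A)
  have := CompVal.isLocalHom φ W
  have e1 : CommRingCat.ofHom ρ ≫ CommRingCat.ofHom W.subtype =
      CommRingCat.ofHom (algebraMap R K) ≫ CommRingCat.ofHom ι := by
    ext x; rfl
  have e1' : Spec.map (CommRingCat.ofHom W.subtype) ≫ Spec.map (CommRingCat.ofHom ρ) =
      Spec.map (CommRingCat.ofHom ι) ≫ Spec.map (CommRingCat.ofHom (algebraMap R K)) := by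
    rw [← Spec.map_comp, ← Spec.map_comp, e1]
  have e2 : Spec.map (CommRingCat.ofHom (algebraMap (CompVal.comp φ W) (FractionRing A))) =
      Spec.map (CommRingCat.ofHom (algebraMap A (FractionRing A))) ≫
        Spec.map (CommRingCat.ofHom (CompVal.comp φ W).subtype) := by
    rw [← Spec.map_comp]
    rfl
  have key : ∀ l : Spec (CommRingCat.of R) ⟶ X, Spec.map (CommRingCat.ofHom (algebraMap R K)) ≫ l = i₁ →
      ∃ L : Spec (CommRingCat.of (CompVal.comp φ W)) ⟶ X,
        Spec.map (CommRingCat.ofHom (CompVal.comp φ W).subtype) ≫ L = y' ∧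
        Spec.map (CommRingCat.ofHom (toW φ W)) ≫ L = Spec.map (CommRingCat.ofHom ρ) ≫ l := by
    intro l hl
    refine glueC φ W _ _ ?_
    rw [hyι, ← Category.assoc, e1', Category.assoc, hl]
  obtain ⟨L₁, h₁, h₁'⟩ := key l₁ hl₁
  obtain ⟨L₂, h₂, h₂'⟩ := key l₂ hl₂
  have hcl : Spec.map (CommRingCat.ofHom ρ) (IsLocalRing.closedPoint W) = IsLocalRing.closedPoint R :=
    IsLocalRing.comap_closedPoint ρ
  have hcl' : Spec.map (CommRingCat.ofHom (toW φ W)) (IsLocalRing.closedPoint W) =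
      IsLocalRing.closedPoint (CompVal.comp φ W) :=
    IsLocalRing.comap_closedPoint (toW φ W)
  have hS : L₁ ≫ f = L₂ ≫ f := by
    refine LocalGlue.ext_of_injective _ _ ?_ (CompVal.comp φ W).subtype Subtype.val_injective ?_
    · rw [← hcl', ← Scheme.Hom.comp_apply, ← Scheme.Hom.comp_apply, ← Category.assoc, ← Category.assoc,
        h₁', h₂', Category.assoc, Category.assoc, hl₁', hl₂']
    · rw [← Category.assoc, ← Category.assoc, h₁, h₂]
  have hL : L₁ = L₂ := by
    refine H.uniq (CompVal.comp φ W) (FractionRing A) x' L₁ L₂ ?_ ?_ hS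
    · rw [e2, Category.assoc, h₁, hxy]
    · rw [e2, Category.assoc, h₂, hxy]
  have hl : l₁ = l₂ := by
    have h12 : Spec.map (CommRingCat.ofHom ρ) ≫ l₁ = Spec.map (CommRingCat.ofHom ρ) ≫ l₂ := by
      rw [← h₁', ← h₂', hL]
    refine LocalGlue.ext_of_injective _ _ ?_ ρ hρinj h12
    rw [← hcl, ← Scheme.Hom.comp_apply, ← Scheme.Hom.comp_apply, h12]
  subst hl
  rfl

end Groth.Agent.K385.ValDense
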